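import Groth.Agent.L09.UnivThick.Basic

/-!
# Coproducts of universal first order thickenings
-/

universe u

open CategoryTheory CategoryTheory.Limits AlgebraicGeometry AlgSp Opposite

set_option backward.isDefEq.respectTransparency.types false

namespace Groth.L09.UnivThick

open Groth.L23

variable {S : Scheme.{u}}

theorem isFirstOrder_sigmaMap {ι : Type u} (U U' : ι → Scheme.{u}) (i : ∀ c, U c ⟶ U' c)
    (hi : ∀ c, MoreMor.IsFirstOrderThickening (i c)) : MoreMor.IsFirstOrderThickening (Limits.Sigma.map i) := by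
  have hsq : ∀ c, IsPullback (i c) (Sigma.ι U c) (Sigma.ι U' c) (Limits.Sigma.map i) := fun c => by
    refine IsOpenImmersion.isPullback _ _ _ _ (Sigma.ι_map i c) ?_
    ext z
    constructor
    · rintro ⟨y, hy⟩
      obtain ⟨c', x, rfl⟩ := (sigmaOpenCover U).exists_eq z
      have e : Limits.Sigma.map i (Sigma.ι U c' x) = Sigma.ι U' c' (i c' x) := by
        rw [← Scheme.Hom.comp_apply, Sigma.ι_map, Scheme.Hom.comp_apply]
      have : (Sigma.mk c y : Σ i, U' i) = Sigma.mk c' (i c' x) :=
        (sigmaι_eq_iff _ _ _ _ _).1 (hy.trans e)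
      obtain rfl : c = c' := congr_arg Sigma.fst this
      exact ⟨x, rfl⟩
    · rintro ⟨x, rfl⟩
      refine ⟨i c x, ?_⟩
      rw [← Scheme.Hom.comp_apply, ← Scheme.Hom.comp_apply, Sigma.ι_map]
  have : IsClosedImmersion (Limits.Sigma.map i) :=
    IsZariskiLocalAtTarget.of_openCover (P := @IsClosedImmersion) (sigmaOpenCover U') fun c => by
      have := (hi c).1.1
      show IsClosedImmersion (pullback.snd (Limits.Sigma.map i) (Sigma.ι U' c))
      rw [← (hsq c).flip.isoPullback_inv_snd]
      infer_instance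
  refine ⟨⟨inferInstance, ⟨fun z => ?_⟩⟩, ?_⟩
  · obtain ⟨c, y, rfl⟩ := (sigmaOpenCover U').exists_eq z
    have := (hi c).1.2
    obtain ⟨x, rfl⟩ := (i c).surjective y
    exact ⟨Sigma.ι U c x, by
      show Limits.Sigma.map i (Sigma.ι U c x) = Sigma.ι U' c (i c x)
      rw [← Scheme.Hom.comp_apply, Sigma.ι_map, Scheme.Hom.comp_apply]⟩
  · let I := (Limits.Sigma.map i).ker * (Limits.Sigma.map i).ker
    show I = ⊥
    refine (Scheme.isIso_subschemeι_iff_eq_bot I).1 ?_
    have : MorphismProperty.isomorphisms Scheme.{u} I.subschemeι :=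
      IsZariskiLocalAtTarget.of_openCover (sigmaOpenCover U') fun c => by
        show IsIso (pullback.snd I.subschemeι (Sigma.ι U' c))
        have h0 : I.comap (Sigma.ι U' c) = ⊥ := by
          have := (hi c).1.1
          have := (hi c).2
          rw [← pow_two] at this
          show ((Limits.Sigma.map i).ker * (Limits.Sigma.map i).ker).comap _ = ⊥
          rw [← pow_two, Groth.L17.Thick.comap_pow, ← Groth.L17.Thick.ker_of_isPullback (hsq c)]
          exact this
        rw [← pullbackSymmetry_hom_comp_fst]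
        have : IsIso (pullback.fst (Sigma.ι U' c) I.subschemeι) :=
          IsClosedImmersion.isIso_iff_ker_eq_bot.2 h0
        infer_instance
    exact this

variable {ι : Type u} {U U' : ι → Over S} {Z X : Sp S}

/-- The coproduct of schemes over `S`. -/
noncomputable def coprodOver (U : ι → Over S) : Over S := Over.mk (Sigma.desc fun i => (U i).hom)

/-- The inclusion of a component. -/
noncomputable def coprodIncl (U : ι → Over S) (i : ι) : U i ⟶ coprodOver U :=
  Over.homMk (Sigma.ι (fun i => (U i).left) i) (Sigma.ι_desc (fun i => (U i).hom) i)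

instance (U : ι → Over S) (i : ι) : IsOpenImmersion (coprodIncl U i).left :=
  inferInstanceAs (IsOpenImmersion (Sigma.ι (fun i => (U i).left) i))

/-- Maps out of a coproduct of schemes glue. -/
theorem exists_desc (c : (i : ι) → (yon S).obj (U i) ⟶ Z) :
    ∃ C : (yon S).obj (coprodOver U) ⟶ Z, ∀ i, (yon S).map (coprodIncl U i) ≫ C = c i := by
  refine exists_glue_etale (R := coprodOver U) U (coprodIncl U)
    (fun i => inferInstanceAs (Etale (Sigma.ι (fun i => (U i).left) i))) (fun x => ?_) c ?_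
  · obtain ⟨i, y, hy⟩ := (sigmaOpenCover fun i => (U i).left).exists_eq x
    exact ⟨i, y, hy⟩
  · intro i k W p q hpq
    have e := congr_arg CommaMorphism.left hpq
    rcases eq_or_ne i k with rfl | hne
    · have : p.left = q.left := (cancel_mono (Sigma.ι (fun i => (U i).left) i)).1 e
      rw [Over.OverMorphism.ext this]
    · have := isEmpty_of_commSq_sigmaι_of_ne (g := fun i => (U i).left) ⟨e⟩ hne
      exact ext_of_etale_nhds _ _ fun x => isEmptyElim x

/-- Coproducts of universal thickenings are universal. -/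
theorem univAff_coprod (i : ∀ c, U c ⟶ U' c) (hi : ∀ c, MoreMor.IsFirstOrderThickening (i c).left)
    {h : ∀ c, (yon S).obj (U c) ⟶ X} {h' : ∀ c, (yon S).obj (U' c) ⟶ X}
    (H : ∀ c, UnivAff (h c) ((yon S).map (i c)) (h' c))
    {hC : (yon S).obj (coprodOver U) ⟶ X}
    {hC' : (yon S).obj (coprodOver U') ⟶ X}
    (e : ∀ c, (yon S).map (coprodIncl U c) ≫ hC = h c)
    (e' : ∀ c, (yon S).map (coprodIncl U' c) ≫ hC' = h' c)
    (iC : coprodOver U ⟶ coprodOver U')
    (hiC : iC.left = Limits.Sigma.map fun c => (i c).left) :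
    UnivAff hC ((yon S).map iC) hC' := by
  let κ : ∀ c, U c ⟶ coprodOver U := coprodIncl U
  let κ' : ∀ c, U' c ⟶ coprodOver U' := coprodIncl U'
  have hκ : ∀ c, κ c ≫ iC = i c ≫ κ' c := fun c => Over.OverMorphism.ext (by
    show (coprodIncl U c).left ≫ iC.left = (i c).left ≫ (coprodIncl U' c).left
    rw [hiC]
    exact Sigma.ι_map (fun c => (i c).left) c)
  -- the test thickening decomposes along the components
  have hloc : ∀ {T T' : Over S} (j : T ⟶ T'), MoreMor.IsFirstOrderThickening j.left →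
      ∀ (a : T ⟶ coprodOver U) (x : T'.left),
      ∃ (c : ι) (W W₀ : Over S) (o : W ⟶ T') (r : W₀ ⟶ T) (jW : W₀ ⟶ W) (a₀ : W₀ ⟶ U c),
        Etale o.left ∧ x ∈ Set.range o.left ∧ IsPullback r jW j o ∧ a₀ ≫ κ c = r ≫ a ∧
        ∀ m : T' ⟶ coprodOver U', j ≫ m = a ≫ iC →
          ∃ m₀ : W ⟶ U' c, m₀ ≫ κ' c = o ≫ m := by
    intro T T' j hj a x
    have := hj.1.1
    have := hj.1.2
    obtain ⟨t, rfl⟩ := j.left.surjective x
    obtain ⟨c, y, hy⟩ : ∃ (c : ι) (y : (U c).left), (coprodIncl U c).left y = a.left t :=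
      (sigmaOpenCover fun c => (U c).left).exists_eq (a.left t)
    let A : Set T.left := a.left ⁻¹' Set.range ((coprodIncl U c).left)
    have hA : IsOpen A := ((coprodIncl U c).left).opensRange.isOpen.preimage a.left.continuous
    let O : T'.left.Opens := ⟨(j.left '' Aᶜ)ᶜ,
      (j.left.isClosedEmbedding.isClosedMap _ hA.isClosed_compl).isOpen_compl⟩
    have hO : ∀ s : T.left, j.left s ∈ O ↔ s ∈ A := fun s => by
      show j.left s ∈ (j.left '' Aᶜ)ᶜ ↔ _
      rw [Set.mem_compl_iff, j.left.isClosedEmbedding.injective.mem_set_image, Set.mem_compl_iff, not_not]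
    let W : Over S := Over.mk (O.ι ≫ T'.hom)
    let o : W ⟶ T' := Over.homMk O.ι rfl
    have sq : IsPullback (pullback.fst j o) (pullback.snd j o) j o := IsPullback.of_hasPullback _ _
    have hr : Set.range ((pullback.fst j o ≫ a).left) ⊆ Set.range ((coprodIncl U c).left) := by
      rintro _ ⟨z, rfl⟩
      refine (hO ((pullback.fst j o).left z)).1 ?_
      have h1 : j.left ((pullback.fst j o).left z) = O.ι ((pullback.snd j o).left z) := by
        rw [← Scheme.Hom.comp_apply, ← Scheme.Hom.comp_apply]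
        exact congr(($(congr_arg CommaMorphism.left sq.w)) z)
      rw [h1]
      exact ((pullback.snd j o).left z).2
    let a₀ : pullback j o ⟶ U c := Over.homMk (IsOpenImmersion.lift ((coprodIncl U c).left) _ hr) (by
      rw [← Over.w (coprodIncl U c), IsOpenImmersion.lift_fac_assoc]
      exact Over.w (pullback.fst j o ≫ a))
    refine ⟨c, W, pullback j o, o, pullback.fst j o, pullback.snd j o, a₀, inferInstanceAs (Etale O.ι),
      ⟨⟨j.left t, (hO t).2 ⟨y, hy⟩⟩, rfl⟩, sq, Over.OverMorphism.ext (IsOpenImmersion.lift_fac _ _ hr),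
      fun m hm => ?_⟩
    have hm' : Set.range ((o ≫ m).left) ⊆ Set.range ((coprodIncl U' c).left) := by
      rintro _ ⟨⟨z, hz⟩, rfl⟩
      obtain ⟨s, rfl⟩ := j.left.surjective z
      obtain ⟨y', hy'⟩ := (hO s).1 hz
      refine ⟨(i c).left y', ?_⟩
      show (coprodIncl U' c).left ((i c).left y') = m.left (j.left s)
      rw [← Scheme.Hom.comp_apply, ← Scheme.Hom.comp_apply,
        show j.left ≫ m.left = a.left ≫ iC.left from congr_arg CommaMorphism.left hm,
        Scheme.Hom.comp_apply a.left, ← hy',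
        show iC.left ((coprodIncl U c).left y') = ((coprodIncl U c).left ≫ iC.left) y' from rfl,
        show (coprodIncl U c).left ≫ iC.left = (i c).left ≫ (coprodIncl U' c).left from
          congr_arg CommaMorphism.left (hκ c)]
    exact ⟨Over.homMk (IsOpenImmersion.lift ((coprodIncl U' c).left) _ hm') (by
      rw [← Over.w (coprodIncl U' c), IsOpenImmersion.lift_fac_assoc]
      exact Over.w (o ≫ m)), Over.OverMorphism.ext (IsOpenImmersion.lift_fac _ _ hm')⟩
  have huniq : ∀ {T T' : Over S} (j : T ⟶ T'), MoreMor.IsFirstOrderThickening j.left →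
      ∀ (a : (yon S).obj T ⟶ _) (b : (yon S).obj T' ⟶ X), (yon S).map j ≫ b = a ≫ hC →
      ∀ l l' : (yon S).obj T' ⟶ _, (yon S).map j ≫ l = a ≫ (yon S).map iC → l ≫ hC' = b →
        (yon S).map j ≫ l' = a ≫ (yon S).map iC → l' ≫ hC' = b → l = l' := by
    intro T T' j hj a b w l l' h₁ h₂ h₁' h₂'
    obtain ⟨a, rfl⟩ := (yon S).map_surjective a
    obtain ⟨l, rfl⟩ := (yon S).map_surjective l
    obtain ⟨l', rfl⟩ := (yon S).map_surjective l'
    rw [← Functor.map_comp, ← Functor.map_comp] at h₁ h₁'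
    refine ext_of_etale_nhds _ _ fun x => ?_
    obtain ⟨c, W, W₀, o, r, jW, a₀, ho, hx, sq, ha₀, hm⟩ := hloc j hj a x
    refine ⟨W, o, ho, hx, ?_⟩
    obtain ⟨m₀, hm₀⟩ := hm l ((yon S).map_injective h₁)
    obtain ⟨m₀', hm₀'⟩ := hm l' ((yon S).map_injective h₁')
    have key : ∀ {l : T' ⟶ _} {m₀ : W ⟶ U' c}, m₀ ≫ κ' c = o ≫ l →
        j ≫ l = a ≫ iC → (yon S).map jW ≫ (yon S).map m₀ = (yon S).map a₀ ≫ (yon S).map (i c) := by
      intro l m₀ hm₀ hl
      rw [← Functor.map_comp, ← Functor.map_comp]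
      refine congrArg _ (Over.OverMorphism.ext ?_)
      rw [← cancel_mono ((coprodIncl U' c).left)]
      have : (jW ≫ m₀) ≫ κ' c = (a₀ ≫ i c) ≫ κ' c := by
        rw [Category.assoc, hm₀, ← reassoc_of% sq.w, hl, Category.assoc, ← hκ, ← reassoc_of% ha₀]
      exact congr_arg CommaMorphism.left this
    rw [← Functor.map_comp, ← Functor.map_comp, ← hm₀, ← hm₀', Functor.map_comp, Functor.map_comp]
    congr 1
    refine uniq_scheme (H c) jW (isFirstOrder_of_isPullback hj (sq.flip.map (Over.forget S)))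
      ((yon S).map a₀) ((yon S).map o ≫ b) ?_ _ _ (key hm₀ ((yon S).map_injective h₁)) ?_
      (key hm₀' ((yon S).map_injective h₁')) ?_
    · rw [← e c, ← Functor.map_comp_assoc, ← Functor.map_comp_assoc]
      show _ = (yon S).map (a₀ ≫ κ c) ≫ hC
      rw [ha₀, ← sq.w, Functor.map_comp_assoc, Functor.map_comp_assoc, w]
    · rw [← e' c, ← Functor.map_comp_assoc]
      show (yon S).map (m₀ ≫ κ' c) ≫ hC' = _
      rw [hm₀, Functor.map_comp_assoc, h₂]
    · rw [← e' c, ← Functor.map_comp_assoc]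
      show (yon S).map (m₀' ≫ κ' c) ≫ hC' = _
      rw [hm₀', Functor.map_comp_assoc, h₂']
  intro T T' j hT' hjT a b w
  have hj := isFirstOrderThickening_of_isFOThickMor_yon_map hT' hjT
  obtain ⟨a, rfl⟩ := (yon S).map_surjective a
  obtain ⟨l, hl⟩ := exists_lift_of_local huniq j hj ((yon S).map a) b w fun x => by
    obtain ⟨c, W, W₀, o, r, jW, a₀, ho, hx, sq, ha₀, -⟩ := hloc j hj a x
    obtain ⟨m, ⟨hm₁, hm₂⟩, -⟩ := existsUnique_scheme (H c) jW
      (isFirstOrder_of_isPullback hj (sq.flip.map (Over.forget S))) ((yon S).map a₀) ((yon S).map o ≫ b) (by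
        rw [← e c, ← Functor.map_comp_assoc, ← Functor.map_comp_assoc]
        show _ = (yon S).map (a₀ ≫ κ c) ≫ hC
        rw [ha₀, ← sq.w, Functor.map_comp_assoc, Functor.map_comp_assoc, w])
    refine ⟨W, o, m ≫ (yon S).map (κ' c), ho, hx, ?_, ?_⟩
    · rw [Category.assoc, e' c, hm₂]
    · obtain ⟨z, hz₁, hz₂⟩ : ∃ z : pullback o j ⟶ W₀, z ≫ r = pullback.snd o j ∧ z ≫ jW = pullback.fst o j :=
        ⟨sq.lift (pullback.snd _ _) (pullback.fst _ _) pullback.condition.symm, sq.lift_fst _ _ _,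
          sq.lift_snd _ _ _⟩
      rw [← hz₁, ← hz₂, Functor.map_comp, Category.assoc, reassoc_of% hm₁]
      simp only [← Functor.map_comp]
      rw [Category.assoc, ← reassoc_of% ha₀, hκ]
  exact ⟨l, hl, fun l' hl' => huniq j hj _ b w l' l hl'.1 hl'.2 hl.1 hl.2⟩

end Groth.L09.UnivThick
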