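import Groth.Agent.L09.UnivThick.Ideals
import Groth.Agent.L23.InfEtaleRing

/-!
# First order thickenings of spaces: base change, and the affine test for universality
-/

universe u

open CategoryTheory CategoryTheory.Limits AlgebraicGeometry AlgSp Opposite

set_option backward.isDefEq.respectTransparency.types false

namespace Groth.L09.UnivThick

open Groth.L23

variable {S : Scheme.{u}}

theorem mono_of_closedImmersion {F G : Sp S} {f : F ⟶ G} (h : RepWith @IsClosedImmersion f) : Mono f :=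
  mono_of_repWith (fun {_ _} g (hg : IsClosedImmersion g) => (inferInstance : Mono g)) h

theorem mono_of_openImmersion {F G : Sp S} {f : F ⟶ G} (h : RepWith @IsOpenImmersion f) : Mono f :=
  mono_of_repWith (fun {_ _} g (hg : IsOpenImmersion g) => (inferInstance : Mono g)) h

/-- A map to a scheme chart: the kernels of two base changes compare. -/
theorem ker_comap_of_isPullback {V V' W W' : Over S} {π : V' ⟶ V} {snd : W ⟶ V} {snd' : W' ⟶ V'}
    {t : W' ⟶ W} [IsClosedImmersion snd.left] (sq : IsPullback snd' t π snd) :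
    snd'.left.ker = snd.left.ker.comap π.left :=
  Groth.L17.Thick.ker_of_isPullback (sq.map (Over.forget S))

/-- Every base change of a first order thickening of a space to a scheme is one. -/
theorem firstOrder_of_isPullback_space {F G : Sp S} (hG : IsAlgSpace G) {i : F ⟶ G} (hi : IsFOThickMor i)
    {V W : Over S} {c : (yon S).obj V ⟶ G} {t : (yon S).obj W ⟶ F} {snd : W ⟶ V}
    (sq : IsPullback ((yon S).map snd) t c i) : MoreMor.IsFirstOrderThickening snd.left := by
  obtain ⟨A, q, hq, hqs⟩ := hG.atlas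
  obtain ⟨P, πA, πV, sP⟩ := exists_isPullback_of_representable hq.1 c
  have he : Etale πV.left := repWith_prop hq sP
  have hs : Surjective πV.left := repWith_prop hqs sP
  obtain ⟨A₀, jA, cT, sA⟩ : ∃ (A₀ : Over S) (jA : A₀ ⟶ A) (cT : (yon S).obj A₀ ⟶ F),
      IsPullback ((yon S).map jA) cT q i := ⟨_, _, _, (hi.1.1.isPullback q).flip⟩
  have hth := (repWith_prop (P := thick) hi.1 sq.flip : thick snd.left)
  refine ⟨hth, ?_⟩
  have := hth.1
  have s₀ : IsPullback (pullback.fst πV snd) (pullback.snd πV snd) πV snd := IsPullback.of_hasPullback _ _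
  have big : IsPullback ((yon S).map (pullback.fst πV snd)) ((yon S).map (pullback.snd πV snd) ≫ t)
      ((yon S).map πA ≫ q) i := by
    rw [sP.w]
    exact (s₀.map (yon S)).paste_vert sq
  obtain ⟨z, hz⟩ := (yon S).map_surjective (sA.lift ((yon S).map (pullback.fst πV snd ≫ πA))
    ((yon S).map (pullback.snd πV snd) ≫ t) (by rw [Functor.map_comp, Category.assoc]; exact big.w))
  have hz₁ : (yon S).map z ≫ (yon S).map jA = (yon S).map (pullback.fst πV snd) ≫ (yon S).map πA := by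
    rw [hz, sA.lift_fst, Functor.map_comp]
  have hz₂ : (yon S).map z ≫ cT = (yon S).map (pullback.snd πV snd) ≫ t := by rw [hz, sA.lift_snd]
  have small : IsPullback ((yon S).map (pullback.fst πV snd)) ((yon S).map z)
      ((yon S).map πA) ((yon S).map jA) :=
    IsPullback.of_bot (by rw [hz₂]; exact big) hz₁.symm sA
  have h2 := (isFirstOrder_of_isPullback (isFirstOrder_of_isFOThickMor hi hq sA)
    ((IsPullback.of_map (yon S) ((yon S).map_injective (by simpa only [Functor.map_comp] using hz₁.symm))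
      small).map (Over.forget S))).2
  show snd.left.ker * snd.left.ker = ⊥
  rw [← pow_two] at h2 ⊢
  refine eq_bot_of_comap_eq_bot πV.left ?_
  rw [Groth.L17.Thick.comap_pow, ← ker_comap_of_isPullback s₀]
  exact h2

theorem isFOThickMor_of_isPullback {F G F' G' : Sp S} (hG : IsAlgSpace G) {i : F ⟶ G}
    (hi : IsFOThickMor i) {a : F' ⟶ F} {i' : F' ⟶ G'} {b : G' ⟶ G} (sq : IsPullback a i' i b) :
    IsFOThickMor i' :=
  ⟨repWith_of_isPullback sq hi.1, fun _ _ _ _ _ _ _ s =>
    (firstOrder_of_isPullback_space hG hi (s.paste_horiz sq).flip).2⟩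

theorem isFOThickMor_yon_map {U V : Over S} {g : U ⟶ V} (h : MoreMor.IsFirstOrderThickening g.left) :
    IsFOThickMor ((yon S).map g) := by
  refine ⟨(isThickMor_yon_map_iff g).2 h.1, fun V' W b fst snd _ _ sq => ?_⟩
  obtain ⟨b₀, rfl⟩ := (yon S).map_surjective b
  obtain ⟨fst₀, rfl⟩ := (yon S).map_surjective fst
  have w : fst₀ ≫ g = snd ≫ b₀ := (yon S).map_injective (by simpa only [Functor.map_comp] using sq.w)
  exact (isFirstOrder_of_isPullback h ((IsPullback.of_map (yon S) w sq).map (Over.forget S)).flip).2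

/-- The universal property on affine test thickenings. -/
def UnivAff {Z Z' X : Sp S} (h : Z ⟶ X) (i : Z ⟶ Z') (h' : Z' ⟶ X) : Prop :=
  ∀ (T T' : Over S) (j : T ⟶ T'), IsAffine T'.left → IsFOThickMor ((yon S).map j) →
    ∀ (a : (yon S).obj T ⟶ Z) (b : (yon S).obj T' ⟶ X), (yon S).map j ≫ b = a ≫ h →
      ∃! a' : (yon S).obj T' ⟶ Z', (yon S).map j ≫ a' = a ≫ i ∧ a' ≫ h' = b

variable {Z Z' X : Sp S} {h : Z ⟶ X} {i : Z ⟶ Z'} {h' : Z' ⟶ X}

theorem uniq_scheme (H : UnivAff h i h') {T T' : Over S} (j : T ⟶ T')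
    (hj : MoreMor.IsFirstOrderThickening j.left) (a : (yon S).obj T ⟶ Z) (b : (yon S).obj T' ⟶ X)
    (w : (yon S).map j ≫ b = a ≫ h) (l l' : (yon S).obj T' ⟶ Z')
    (h₁ : (yon S).map j ≫ l = a ≫ i) (h₂ : l ≫ h' = b)
    (h₁' : (yon S).map j ≫ l' = a ≫ i) (h₂' : l' ≫ h' = b) : l = l' :=
  ext_of_etale_nhds _ _ fun x => by
    obtain ⟨_, ⟨O₀, hO, rfl⟩, hxO, -⟩ :=
      T'.left.isBasis_affineOpens.exists_subset_of_mem_open (Set.mem_univ x) isOpen_univ
    let O : T'.left.Opens := O₀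
    let T₁ : Over S := Over.mk (O.ι ≫ T'.hom)
    let o : T₁ ⟶ T' := Over.homMk O.ι rfl
    have sq : IsPullback (pullback.fst o j) (pullback.snd o j) o j := IsPullback.of_hasPullback _ _
    refine ⟨T₁, o, inferInstanceAs (Etale O.ι), ⟨⟨x, hxO⟩, rfl⟩, ?_⟩
    refine (H _ _ (pullback.fst o j) hO
      (isFOThickMor_yon_map (isFirstOrder_of_isPullback hj (sq.map (Over.forget S))))
      ((yon S).map (pullback.snd o j) ≫ a) ((yon S).map o ≫ b) ?_).unique ⟨?_, ?_⟩ ⟨?_, ?_⟩
    · rw [Category.assoc, ← w, ← Functor.map_comp_assoc, ← Functor.map_comp_assoc, sq.w]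
    · rw [Category.assoc, ← h₁, ← Functor.map_comp_assoc, ← Functor.map_comp_assoc, sq.w]
    · rw [Category.assoc, h₂]
    · rw [Category.assoc, ← h₁', ← Functor.map_comp_assoc, ← Functor.map_comp_assoc, sq.w]
    · rw [Category.assoc, h₂']

/-- Gluing local lifts: only uniqueness of lifts over all thickenings of schemes is needed. -/
theorem exists_lift_of_local
    (huniq : ∀ {T T' : Over S} (j : T ⟶ T'), MoreMor.IsFirstOrderThickening j.left →
      ∀ (a : (yon S).obj T ⟶ Z) (b : (yon S).obj T' ⟶ X), (yon S).map j ≫ b = a ≫ h →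
      ∀ l l' : (yon S).obj T' ⟶ Z', (yon S).map j ≫ l = a ≫ i → l ≫ h' = b →
        (yon S).map j ≫ l' = a ≫ i → l' ≫ h' = b → l = l')
    {T T' : Over S} (j : T ⟶ T') (hj : MoreMor.IsFirstOrderThickening j.left)
    (a : (yon S).obj T ⟶ Z) (b : (yon S).obj T' ⟶ X) (w : (yon S).map j ≫ b = a ≫ h)
    (hloc : ∀ x : T'.left, ∃ (W : Over S) (e : W ⟶ T') (l : (yon S).obj W ⟶ Z'), Etale e.left ∧
      x ∈ Set.range e.left ∧ l ≫ h' = (yon S).map e ≫ b ∧
      (yon S).map (pullback.fst e j) ≫ l = (yon S).map (pullback.snd e j) ≫ a ≫ i) :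
    ∃ l, (yon S).map j ≫ l = a ≫ i ∧ l ≫ h' = b := by
  choose W e l he hx hl₂ hl₁ using hloc
  obtain ⟨L, hL⟩ := exists_glue_etale W e he (fun x => ⟨x, hx x⟩) l (fun i₁ k P p q hpq => by
    obtain ⟨g, hg⟩ : ∃ g : P ⟶ T', p ≫ e i₁ = g := ⟨_, rfl⟩
    rw [hg] at hpq
    have sZ : IsPullback (pullback.fst g j) (pullback.snd g j) g j := IsPullback.of_hasPullback _ _
    have w₁ : (pullback.fst g j ≫ p) ≫ e i₁ = pullback.snd g j ≫ j := by rw [← sZ.w, Category.assoc, hg]
    have w₂ : (pullback.fst g j ≫ q) ≫ e k = pullback.snd g j ≫ j := by rw [← sZ.w, Category.assoc, ← hpq]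
    refine huniq (pullback.fst g j) (isFirstOrder_of_isPullback hj (sZ.map (Over.forget S)))
      ((yon S).map (pullback.snd g j) ≫ a) ((yon S).map g ≫ b) ?_ _ _ ?_ ?_ ?_ ?_
    · rw [Category.assoc, ← w, ← Functor.map_comp_assoc, ← Functor.map_comp_assoc, sZ.w]
    · rw [Category.assoc, ← Functor.map_comp_assoc,
        ← pullback.lift_fst (pullback.fst g j ≫ p) (pullback.snd g j) w₁,
        Functor.map_comp, Category.assoc, hl₁, ← Functor.map_comp_assoc, pullback.lift_snd]
    · rw [Category.assoc, hl₂, ← Functor.map_comp_assoc, hg]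
    · rw [Category.assoc, ← Functor.map_comp_assoc,
        ← pullback.lift_fst (pullback.fst g j ≫ q) (pullback.snd g j) w₂,
        Functor.map_comp, Category.assoc, hl₁, ← Functor.map_comp_assoc, pullback.lift_snd]
    · rw [Category.assoc, hl₂, ← Functor.map_comp_assoc, ← hpq])
  have hLf : L ≫ h' = b := ext_of_etale_nhds _ _ fun x =>
    ⟨_, e x, he x, hx x, by rw [← Category.assoc, hL, hl₂]⟩
  refine ⟨L, ext_of_etale_nhds _ _ fun x => ?_, hLf⟩
  have sP : IsPullback (pullback.fst (e (j.left x)) j).left (pullback.snd (e (j.left x)) j).left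
      (e (j.left x)).left j.left :=
    (IsPullback.of_hasPullback (e (j.left x)) j).map (Over.forget S)
  obtain ⟨v, hv⟩ := hx (j.left x)
  have := hj.1.1
  obtain ⟨z, -, hz₂⟩ := Scheme.exists_preimage_of_isPullback sP v x hv
  refine ⟨_, pullback.snd (e (j.left x)) j, MorphismProperty.of_isPullback (P := @Etale) sP (he _),
    ⟨z, hz₂⟩, ?_⟩
  rw [← Functor.map_comp_assoc, ← pullback.condition, Functor.map_comp_assoc, hL, hl₁]

theorem existsUnique_scheme (H : UnivAff h i h') {T T' : Over S} (j : T ⟶ T')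
    (hj : MoreMor.IsFirstOrderThickening j.left) (a : (yon S).obj T ⟶ Z) (b : (yon S).obj T' ⟶ X)
    (w : (yon S).map j ≫ b = a ≫ h) :
    ∃! l, (yon S).map j ≫ l = a ≫ i ∧ l ≫ h' = b := by
  obtain ⟨l, hl⟩ := exists_lift_of_local (uniq_scheme H) j hj a b w fun x => by
    obtain ⟨_, ⟨O₀, hO, rfl⟩, hxO, -⟩ :=
      T'.left.isBasis_affineOpens.exists_subset_of_mem_open (Set.mem_univ x) isOpen_univ
    let O : T'.left.Opens := O₀
    let T₁ : Over S := Over.mk (O.ι ≫ T'.hom)
    let o : T₁ ⟶ T' := Over.homMk O.ι rfl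
    have sq : IsPullback (pullback.fst o j) (pullback.snd o j) o j := IsPullback.of_hasPullback _ _
    obtain ⟨l, ⟨h₁, h₂⟩, -⟩ := H _ _ (pullback.fst o j) hO
      (isFOThickMor_yon_map (isFirstOrder_of_isPullback hj (sq.map (Over.forget S))))
      ((yon S).map (pullback.snd o j) ≫ a) ((yon S).map o ≫ b)
      (by rw [Category.assoc, ← w, ← Functor.map_comp_assoc, ← Functor.map_comp_assoc, sq.w])
    exact ⟨T₁, o, l, inferInstanceAs (Etale O.ι), ⟨⟨x, hxO⟩, rfl⟩, h₂, h₁.trans (Category.assoc _ _ _)⟩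
  exact ⟨l, hl, fun l' hl' => uniq_scheme H j hj a b w l' l hl'.1 hl'.2 hl.1 hl.2⟩

/-- The affine test implies universality. -/
theorem isUnivFOThick_of_univAff (hi : IsFOThickMor i) (hih : i ≫ h' = h) (H : UnivAff h i h') :
    IsUnivFOThick h i h' := by
  refine ⟨hi, hih, fun T T' _ hT' j a b hj w => ?_⟩
  obtain ⟨V, c, hc, hcs⟩ := hT'.atlas
  obtain ⟨V₀, jV, cT, sqV⟩ : ∃ (V₀ : Over S) (jV : V₀ ⟶ V) (cT : (yon S).obj V₀ ⟶ T),
      IsPullback ((yon S).map jV) cT c j := ⟨_, _, _, (hj.1.1.isPullback c).flip⟩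
  have hjV := isFirstOrder_of_isFOThickMor hj hc sqV
  have := epi_of_repWith c hc hcs
  have : Epi cT := epi_of_repWith cT (repWith_of_isPullback sqV hc) (repWith_of_isPullback sqV hcs)
  have wV : (yon S).map jV ≫ c ≫ b = (cT ≫ a) ≫ h := by rw [sqV.w_assoc, w, Category.assoc]
  obtain ⟨l, ⟨hl₁, hl₂⟩, hu⟩ := existsUnique_scheme H jV hjV (cT ≫ a) (c ≫ b) wV
  obtain ⟨R, p, q, sR⟩ := exists_isPullback_of_representable hc.1 c
  obtain ⟨hcol⟩ := nonempty_isColimit_cofork c sR
  have hcompat : (yon S).map p ≫ l = (yon S).map q ≫ l := by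
    have sZ : IsPullback (pullback.fst p jV) (pullback.snd p jV) p jV := IsPullback.of_hasPullback _ _
    obtain ⟨z, hz⟩ := (yon S).map_surjective (sqV.lift ((yon S).map (pullback.fst p jV ≫ q))
      ((yon S).map (pullback.snd p jV) ≫ cT) (by
        rw [Functor.map_comp, Category.assoc, ← sR.w, ← Functor.map_comp_assoc, sZ.w, Functor.map_comp,
          Category.assoc, sqV.w, Category.assoc]))
    have hz₂ : z ≫ jV = pullback.fst p jV ≫ q :=
      (yon S).map_injective (by rw [(yon S).map_comp, hz, sqV.lift_fst])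
    have hz₁ : (yon S).map z ≫ cT = (yon S).map (pullback.snd p jV) ≫ cT := by rw [hz, sqV.lift_snd]
    refine uniq_scheme H (pullback.fst p jV)
      (isFirstOrder_of_isPullback hjV (sZ.map (Over.forget S)))
      ((yon S).map (pullback.snd p jV) ≫ cT ≫ a) ((yon S).map p ≫ c ≫ b) ?_ _ _ ?_ ?_ ?_ ?_
    · rw [← Functor.map_comp_assoc, sZ.w, Functor.map_comp_assoc, wV, Category.assoc, Category.assoc,
        Category.assoc]
    · rw [← Functor.map_comp_assoc, sZ.w, Functor.map_comp_assoc, hl₁, Category.assoc, Category.assoc,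
        Category.assoc]
    · rw [Category.assoc, hl₂]
    · rw [← Functor.map_comp_assoc, ← hz₂, Functor.map_comp_assoc, hl₁, Category.assoc, reassoc_of% hz₁,
        Category.assoc, Category.assoc]
    · rw [Category.assoc, hl₂, ← Category.assoc, ← Category.assoc, sR.w, Category.assoc]
  obtain ⟨L, hL⟩ : ∃ L : T' ⟶ Z', c ≫ L = l :=
    ⟨hcol.desc (Cofork.ofπ l hcompat), hcol.fac (Cofork.ofπ l hcompat) WalkingParallelPair.one⟩
  refine ⟨L, ⟨?_, ?_⟩, ?_⟩
  · rw [← cancel_epi cT, ← Category.assoc, ← sqV.w, Category.assoc, hL, hl₁, Category.assoc]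
  · rw [← cancel_epi c, ← Category.assoc, hL, hl₂]
  · rintro L' ⟨h₁, h₂⟩
    rw [← cancel_epi c, hL]
    refine hu _ ⟨?_, ?_⟩
    · rw [sqV.w_assoc, h₁, Category.assoc]
    · rw [Category.assoc, h₂]

theorem univAff_of_isUnivFOThick (H : IsUnivFOThick h i h') : UnivAff h i h' :=
  fun T T' j _ hj a b w => H.2.2 (IsAlgSpace.yon_obj T) (IsAlgSpace.yon_obj T') ((yon S).map j) a b hj w

end Groth.L09.UnivThick
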