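import Groth.Agent.L09.UnivThick.Basic
import Groth.Agent.L23.UHSpacePush

/-!
# Universal first order thickenings and etale morphisms
-/

universe u

open CategoryTheory CategoryTheory.Limits AlgebraicGeometry AlgSp Opposite

set_option backward.isDefEq.respectTransparency.types false

namespace Groth.L09.UnivThick

open Groth.L23

variable {S : Scheme.{u}} {Z Z' Y Y' X : Sp S}

theorem isUnivHomeo_of_isThickMor {i : Z ⟶ Z'} (h : IsThickMor i) : RepWith FlatMor.IsUnivHomeo i :=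
  repWith_mono (fun φ (hφ : thick φ) => by
    obtain ⟨h₁, h₂⟩ := hφ
    exact (Groth.L20.isUnivHomeo_iff φ).2 ⟨inferInstance, inferInstance, h₂⟩) h

/-- Universality passes to etale base changes. -/
theorem isUnivFOThick_etale_baseChange (hZ' : IsAlgSpace Z') (hY' : IsAlgSpace Y') {e : Z ⟶ Y}
    {hY : Y ⟶ X} {iY : Y ⟶ Y'} {hX' : Y' ⟶ X} (HU : IsUnivFOThick hY iY hX') {iZ : Z ⟶ Z'} {e' : Z' ⟶ Y'}
    (he' : IsEtaleMor e') (sq : IsPullback e iZ iY e') :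
    IsUnivFOThick (e ≫ hY) iZ (e' ≫ hX') := by
  obtain ⟨hi, hw, hU⟩ := HU
  refine ⟨isFOThickMor_of_isPullback hY' hi sq, ?_, fun T T' hT hT' j a b hj w => ?_⟩
  · rw [← Category.assoc, ← sq.w, Category.assoc, hw]
  obtain ⟨a₁, ⟨h₁, h₂⟩, hu⟩ := hU hT hT' j (a ≫ e) b hj (w.trans (Category.assoc _ _ _).symm)
  obtain ⟨a₂, ⟨g₁, g₂⟩, hv⟩ := existsUnique_lift_space
    (isFormallyEtaleMor_of_isEtaleMor hZ' hY' he') hT' j hj (a ≫ iZ) a₁
    (by rw [Category.assoc, ← sq.w, h₁, Category.assoc])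
  refine ⟨a₂, ⟨g₁, ?_⟩, fun x hx => hv x ⟨hx.1, hu _ ⟨?_, ?_⟩⟩⟩
  · rw [← Category.assoc, g₂, h₂]
  · rw [← Category.assoc, hx.1, Category.assoc, ← sq.w, Category.assoc]
  · rw [Category.assoc]; exact hx.2

/-- Universality descends along etale surjections. -/
theorem isUnivFOThick_descend (hZ : IsAlgSpace Z) (hZ' : IsAlgSpace Z') (hY' : IsAlgSpace Y')
    {e : Z ⟶ Y} (he : IsEtaleMor e) (hes : IsSurjectiveMor e) {hX : Y ⟶ X} {iZ : Z ⟶ Z'} {iY : Y ⟶ Y'}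
    (hiY : IsFOThickMor iY) {f' : Z' ⟶ Y'} (hf' : IsEtaleMor f') (w : iZ ≫ f' = e ≫ iY) {hX' : Y' ⟶ X}
    (w' : iY ≫ hX' = hX) (HU : IsUnivFOThick (e ≫ hX) iZ (f' ≫ hX')) :
    IsUnivFOThick hX iY hX' := by
  have hfe := isFormallyEtaleMor_of_isEtaleMor hZ' hY' hf'
  have HA := univAff_of_isUnivFOThick HU
  obtain ⟨U, u, hu, hus⟩ := hZ.atlas
  have hue : RepWith @Etale (u ≫ e) := he u hu
  have hues : RepWith @Surjective (u ≫ e) := repWith_surjective_of_map hue.1 fun y => by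
    obtain ⟨z, rfl⟩ := hes y
    obtain ⟨x, rfl⟩ := surjective_map_of_repWith hus z
    exact ⟨x, Points.map_comp u e x⟩
  -- locally on the thickened scheme the test map lifts to `Z`
  have hloc : ∀ {T T' : Over S} (jT : T ⟶ T'), MoreMor.IsFirstOrderThickening jT.left →
      ∀ (a : (yon S).obj T ⟶ Y) (x : T'.left), ∃ (V₁ P₁ : Over S) (e₁ : V₁ ⟶ T') (j₁ : P₁ ⟶ V₁)
        (r : P₁ ⟶ T) (aZ : (yon S).obj P₁ ⟶ Z), Etale e₁.left ∧ x ∈ Set.range e₁.left ∧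
        IsPullback r j₁ jT e₁ ∧ MoreMor.IsFirstOrderThickening j₁.left ∧ aZ ≫ e = (yon S).map r ≫ a := by
    intro T T' jT hj a x
    obtain ⟨P, pU, ρ, sP⟩ := exists_isPullback_of_representable hue.1 a
    have : Etale ρ.left := repWith_prop hue sP
    have : Surjective ρ.left := repWith_prop hues sP
    have := hj.1.2
    obtain ⟨t, rfl⟩ := jT.left.surjective x
    obtain ⟨π, rfl⟩ := ρ.left.surjective t
    obtain ⟨V₁, P₁, e₁, m, j₁, he₁, -, sq₁, hr⟩ := exists_local_etale_lift ρ.left jT.left hj.1 π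
    let V : Over S := Over.mk (e₁ ≫ T'.hom)
    let eV : V ⟶ T' := Over.homMk e₁ rfl
    let P' : Over S := Over.mk (j₁ ≫ V.hom)
    let jV : P' ⟶ V := Over.homMk j₁ rfl
    let mV : P' ⟶ P := Over.homMk m (by
      show m ≫ P.hom = j₁ ≫ e₁ ≫ T'.hom
      rw [← Over.w ρ, ← Over.w jT, ← Category.assoc, ← Category.assoc, sq₁.w, Category.assoc])
    refine ⟨V, P', eV, jV, mV ≫ ρ, (yon S).map (mV ≫ pU) ≫ u, he₁, hr,
      IsPullback.of_map (Over.forget S) (Over.OverMorphism.ext sq₁.w) sq₁,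
      isFirstOrder_of_isPullback hj sq₁.flip, ?_⟩
    rw [Category.assoc, Functor.map_comp, Category.assoc, sP.w, ← Functor.map_comp_assoc]
  have huniq : ∀ {T T' : Over S} (j : T ⟶ T'), MoreMor.IsFirstOrderThickening j.left →
      ∀ (a : (yon S).obj T ⟶ Y) (b : (yon S).obj T' ⟶ X), (yon S).map j ≫ b = a ≫ hX →
      ∀ l l' : (yon S).obj T' ⟶ Y', (yon S).map j ≫ l = a ≫ iY → l ≫ hX' = b →
        (yon S).map j ≫ l' = a ≫ iY → l' ≫ hX' = b → l = l' := by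
    intro T T' j hj a b wab l l' h₁ h₂ h₁' h₂'
    refine ext_of_etale_nhds _ _ fun x => ?_
    obtain ⟨V₁, P₁, e₁, j₁, r, aZ, he₁, hx, sq₁, hj₁, haZ⟩ := hloc j hj a x
    refine ⟨V₁, e₁, he₁, hx, ?_⟩
    have wc : ∀ l : (yon S).obj T' ⟶ Y', (yon S).map j ≫ l = a ≫ iY →
        (aZ ≫ iZ) ≫ f' = (yon S).map j₁ ≫ (yon S).map e₁ ≫ l := fun l hl => by
      rw [Category.assoc, w, reassoc_of% haZ, ← hl, ← Functor.map_comp_assoc, ← Functor.map_comp_assoc,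
        sq₁.w]
    obtain ⟨m, ⟨hm₁, hm₂⟩, -⟩ := existsUnique_lift_scheme hfe j₁ hj₁ _ _ (wc l h₁)
    obtain ⟨m', ⟨hm₁', hm₂'⟩, -⟩ := existsUnique_lift_scheme hfe j₁ hj₁ _ _ (wc l' h₁')
    rw [← hm₂, ← hm₂', uniq_scheme HA j₁ hj₁ aZ ((yon S).map e₁ ≫ b)
      (by rw [reassoc_of% haZ, ← wab, ← Functor.map_comp_assoc, ← Functor.map_comp_assoc, sq₁.w])
      m m' hm₁ (by rw [← Category.assoc, hm₂, Category.assoc, h₂]) hm₁'
      (by rw [← Category.assoc, hm₂', Category.assoc, h₂'])]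
  refine isUnivFOThick_of_univAff hiY w' fun T T' j hT' hj a b wab => ?_
  have hjs := isFirstOrderThickening_of_isFOThickMor_yon_map hT' hj
  obtain ⟨l, hl⟩ := exists_lift_of_local huniq j hjs a b wab fun x => by
    obtain ⟨V₁, P₁, e₁, j₁, r, aZ, he₁, hx, sq₁, hj₁, haZ⟩ := hloc j hjs a x
    obtain ⟨m, ⟨hm₁, hm₂⟩, -⟩ := existsUnique_scheme HA j₁ hj₁ aZ ((yon S).map e₁ ≫ b)
      (by rw [reassoc_of% haZ, ← wab, ← Functor.map_comp_assoc, ← Functor.map_comp_assoc, sq₁.w])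
    refine ⟨V₁, e₁, m ≫ f', he₁, hx, by rw [Category.assoc]; exact hm₂, ?_⟩
    obtain ⟨z, hz₁, hz₂⟩ : ∃ z : pullback e₁ j ⟶ P₁, z ≫ r = pullback.snd e₁ j ∧
        z ≫ j₁ = pullback.fst e₁ j :=
      ⟨sq₁.lift (pullback.snd _ _) (pullback.fst _ _) pullback.condition.symm, sq₁.lift_fst _ _ _,
        sq₁.lift_snd _ _ _⟩
    rw [← hz₁, ← hz₂, Functor.map_comp, Category.assoc, reassoc_of% hm₁, w, reassoc_of% haZ,
      Functor.map_comp_assoc]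
  exact ⟨l, hl, fun l' hl' => huniq j hjs a b wab l' l hl'.1 hl'.2 hl.1 hl.2⟩

/-- The map of universal thickenings induced by etale maps is etale. -/
theorem isEtaleMor_univThick_map {V U V' : Sp S} (hZ : IsAlgSpace Z) (hZ' : IsAlgSpace Z') (hX : IsAlgSpace X)
    (hV : IsAlgSpace V) (hU : IsAlgSpace U) (hV' : IsAlgSpace V') {h : Z ⟶ X} {iZ : Z ⟶ Z'} {hX' : Z' ⟶ X}
    (HZ : IsUnivFOThick h iZ hX') {v : V ⟶ Z} {w : U ⟶ X} (hv : IsEtaleMor v) (hw : IsEtaleMor w)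
    {ψ : V ⟶ U} (c : ψ ≫ w = v ≫ h) {iV : V ⟶ V'} {hU' : V' ⟶ U} (HV : IsUnivFOThick ψ iV hU')
    {e' : V' ⟶ Z'} (he₁ : iV ≫ e' = v ≫ iZ) (he₂ : e' ≫ hX' = hU' ≫ w) : IsEtaleMor e' := by
  obtain ⟨V'', hV'', a, κ, ha, sq⟩ :=
    exists_etale_space_descent hZ hZ' (isUnivHomeo_of_isThickMor HZ.1.1) hV hv
  obtain ⟨hκ, -, hκu⟩ := isUnivFOThick_etale_baseChange hV'' hZ' HZ ha sq
  have hwF := isFormallyEtaleMor_of_isEtaleMor hU hX hw
  obtain ⟨g, ⟨hg₁, hg₂⟩, -⟩ := existsUnique_lift_space hwF hV'' κ hκ ψ (a ≫ hX')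
    (by rw [c, ← reassoc_of% sq.w, HZ.2.1])
  obtain ⟨φ, ⟨hφ₁, hφ₂⟩, -⟩ := hκu hV hV' iV (𝟙 V) (hU' ≫ w) HV.1
    (by rw [← Category.assoc, HV.2.1, c, Category.id_comp])
  rw [Category.id_comp] at hφ₁
  have hφg : φ ≫ g = hU' := unique_lift_space ((formallyEtale_iff w).1 hwF).2 hV' iV HV.1 _ _
    (by rw [reassoc_of% hφ₁, hg₁, HV.2.1]) (by rw [Category.assoc, hg₂, hφ₂])
  obtain ⟨χ, ⟨hχ₁, hχ₂⟩, -⟩ := HV.2.2 hV hV'' κ (𝟙 V) g hκ (by rw [hg₁, Category.id_comp])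
  rw [Category.id_comp] at hχ₁
  have h₁ : φ ≫ χ = 𝟙 V' := (HV.2.2 hV hV' iV (𝟙 V) hU' HV.1 (by rw [HV.2.1, Category.id_comp])).unique
    ⟨by rw [reassoc_of% hφ₁, hχ₁, Category.id_comp], by rw [Category.assoc, hχ₂, hφg]⟩
    ⟨by simp, by simp⟩
  have h₂ : χ ≫ φ = 𝟙 V'' := (hκu hV hV'' κ (𝟙 V) (a ≫ hX') hκ
    (by rw [← reassoc_of% sq.w, Category.id_comp, HZ.2.1])).unique
    ⟨by rw [reassoc_of% hχ₁, hφ₁, Category.id_comp],
      by rw [Category.assoc, hφ₂, reassoc_of% hχ₂, hg₂]⟩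
    ⟨by simp, by simp⟩
  have : IsIso φ := ⟨χ, h₁, h₂⟩
  have heq : e' = φ ≫ a := (HZ.2.2 hV hV' iV v (hU' ≫ w) HV.1
    (by rw [← Category.assoc, HV.2.1, c])).unique ⟨he₁, he₂⟩
    ⟨by rw [reassoc_of% hφ₁, ← sq.w], by rw [Category.assoc, hφ₂]⟩
  rw [heq]
  intro W p hp
  rw [← Category.assoc]
  exact ha (p ≫ φ) (repWith_comp hp (repWith_of_isIso φ))

end Groth.L09.UnivThick
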