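import Groth.Agent.L09.UnivThick.Local
import Groth.Agent.L09.UnivThick.Coprod
import Groth.Agent.L09.UnivThick.Etale
import Groth.Agent.L24.Boot.QuotFlat
import Groth.Agent.L24.Boot.YonLemmas
import Groth.Agent.L23.FppfImmersion

/-!
# Existence of universal first order thickenings
-/

universe u

open CategoryTheory CategoryTheory.Limits AlgebraicGeometry AlgSp Opposite

set_option backward.isDefEq.respectTransparency.types false

namespace Groth.L09.UnivThick

open Groth.L23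

variable {S : Scheme.{u}}

theorem isFOThickMor_of_atlas {F G : Sp S} {i : F ⟶ G} (hi : IsThickMor i) {A A₀ : Over S}
    {q : (yon S).obj A ⟶ G} (hq : RepWith @Etale q) (hqs : RepWith @Surjective q) {jA : A₀ ⟶ A}
    {cT : (yon S).obj A₀ ⟶ F} (sA : IsPullback ((yon S).map jA) cT q i)
    (hjA : MoreMor.IsFirstOrderThickening jA.left) : IsFOThickMor i := by
  refine ⟨hi, fun V W c t snd _ _ sq' => ?_⟩
  have sq : IsPullback ((yon S).map snd) t c i := sq'.flip
  obtain ⟨P, πA, πV, sP⟩ := exists_isPullback_of_representable hq.1 c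
  have he : Etale πV.left := repWith_prop hq sP
  have hs : Surjective πV.left := repWith_prop hqs sP
  have := (repWith_prop (P := thick) hi sq' : thick snd.left).1
  have s₀ : IsPullback (pullback.fst πV snd) (pullback.snd πV snd) πV snd := IsPullback.of_hasPullback _ _
  have big : IsPullback ((yon S).map (pullback.fst πV snd)) ((yon S).map (pullback.snd πV snd) ≫ t)
      ((yon S).map πA ≫ q) i := by
    rw [sP.w]
    exact (s₀.map (yon S)).paste_vert sq
  obtain ⟨z, hz⟩ := (yon S).map_surjective (sA.lift ((yon S).map (pullback.fst πV snd ≫ πA))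
    ((yon S).map (pullback.snd πV snd) ≫ t) (by rw [Functor.map_comp, Category.assoc]; exact big.w))
  have hz₁ : (yon S).map z ≫ (yon S).map jA = (yon S).map (pullback.fst πV snd) ≫ (yon S).map πA := by
    rw [hz, sA.lift_fst, Functor.map_comp]
  have hz₂ : (yon S).map z ≫ cT = (yon S).map (pullback.snd πV snd) ≫ t := by rw [hz, sA.lift_snd]
  have small : IsPullback ((yon S).map (pullback.fst πV snd)) ((yon S).map z)
      ((yon S).map πA) ((yon S).map jA) :=
    IsPullback.of_bot (by rw [hz₂]; exact big) hz₁.symm sA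
  have h2 := (isFirstOrder_of_isPullback hjA
    ((IsPullback.of_map (yon S) ((yon S).map_injective (by simpa only [Functor.map_comp] using hz₁.symm))
      small).map (Over.forget S))).2
  show snd.left.ker * snd.left.ker = ⊥
  rw [← pow_two] at h2 ⊢
  refine eq_bot_of_comap_eq_bot πV.left ?_
  rw [Groth.L17.Thick.comap_pow, ← ker_comap_of_isPullback s₀]
  exact h2

/-- A map between quotients of a pair of kernel pairs is cartesian. -/
theorem isPullback_descend {U₀ : Over S} {Z Z' U' R R' : Sp S} {u : (yon S).obj U₀ ⟶ Z}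
    (hu : RepWith @Etale u) (hus : RepWith @Surjective u) {iU : (yon S).obj U₀ ⟶ U'} [Mono iU]
    {π : U' ⟶ Z'} {i : Z ⟶ Z'} (wi : u ≫ i = iU ≫ π) {t s : R' ⟶ U'} (sπ : IsPullback t s π π)
    {p q : R ⟶ (yon S).obj U₀} {iR : R ⟶ R'} (wp : p ≫ u = q ≫ u) (ht : IsPullback iR p t iU)
    (hs : iR ≫ s = q ≫ iU) : IsPullback iU u π i := by
  have := Groth.L24.Boot.isIso_of_yon (pullback.lift iU u wi.symm)
    (fun T x y e => by
      have := congrArg (· ≫ pullback.fst π i) e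
      simp only [Category.assoc, pullback.lift_fst] at this
      exact (cancel_mono iU).1 this)
    fun T y => by
      obtain ⟨T₁, c, y₁, sy⟩ : ∃ (T₁ : Over S) (c : T₁ ⟶ T) (y₁ : (yon S).obj T₁ ⟶ (yon S).obj U₀),
          IsPullback y₁ ((yon S).map c) u (y ≫ pullback.snd π i) :=
        ⟨_, _, _, hu.1.isPullback (y ≫ pullback.snd π i)⟩
      have : Epi ((yon S).map c) :=
        epi_of_repWith _ (repWith_of_isPullback sy hu) (repWith_of_isPullback sy hus)
      have wr : (y₁ ≫ iU) ≫ π = ((yon S).map c ≫ y ≫ pullback.fst π i) ≫ π := by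
        rw [Category.assoc, ← wi, ← Category.assoc, sy.w, Category.assoc, Category.assoc, Category.assoc,
          Category.assoc, pullback.condition]
      let r := sπ.lift _ _ wr
      let r₀ := ht.lift r y₁ (sπ.lift_fst _ _ wr)
      have hy₁ : (r₀ ≫ q) ≫ iU = (yon S).map c ≫ y ≫ pullback.fst π i := by
        rw [Category.assoc, ← hs, ← Category.assoc, ht.lift_fst, sπ.lift_snd]
      have hy₂ : (r₀ ≫ q) ≫ u = (yon S).map c ≫ y ≫ pullback.snd π i := by
        rw [Category.assoc, ← wp, ← Category.assoc, ht.lift_snd, sy.w]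
      obtain ⟨hcol⟩ := nonempty_isColimit_cofork ((yon S).map c)
        (IsPullback.of_hasPullback ((yon S).map c) ((yon S).map c))
      have hcomp : pullback.fst ((yon S).map c) ((yon S).map c) ≫ r₀ ≫ q =
          pullback.snd ((yon S).map c) ((yon S).map c) ≫ r₀ ≫ q := by
        rw [← cancel_mono iU, Category.assoc, hy₁, Category.assoc, hy₁, pullback.condition_assoc]
      obtain ⟨x, hx⟩ : ∃ x, (yon S).map c ≫ x = r₀ ≫ q :=
        ⟨hcol.desc (Cofork.ofπ _ hcomp), hcol.fac (Cofork.ofπ _ hcomp) WalkingParallelPair.one⟩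
      refine ⟨x, pullback.hom_ext ?_ ?_⟩
      · rw [Category.assoc, pullback.lift_fst, ← cancel_epi ((yon S).map c), reassoc_of% hx, ← Category.assoc]
        exact hy₁
      · rw [Category.assoc, pullback.lift_snd, ← cancel_epi ((yon S).map c), reassoc_of% hx, ← Category.assoc]
        exact hy₂
  exact IsPullback.of_iso_pullback ⟨wi.symm⟩ (asIso (pullback.lift iU u wi.symm))
    (pullback.lift_fst iU u wi.symm) (pullback.lift_snd iU u wi.symm)

variable {Z X : Sp S}

/-- An atlas with a universal thickening. -/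
theorem exists_univThick_atlas (hZ : IsAlgSpace Z) (hX : IsAlgSpace X) {h : Z ⟶ X}
    (hh : IsFormallyUnramifiedMor h) :
    ∃ (U₀ U' : Over S) (u : (yon S).obj U₀ ⟶ Z) (iU : U₀ ⟶ U') (hU' : (yon S).obj U' ⟶ X),
      RepWith @Etale u ∧ RepWith @Surjective u ∧ MoreMor.IsFirstOrderThickening iU.left ∧
      IsUnivFOThick (u ≫ h) ((yon S).map iU) hU' := by
  obtain ⟨U, V, a, b, k, ha, has, hb, -, w⟩ := exists_chart hZ hX h
  have hloc : ∀ x : U.left, ∃ (U₁ V₁ : Over S) (oU : U₁ ⟶ U) (oV : V₁ ⟶ V) (r : U₁ ⟶ V₁),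
      IsAffine U₁.left ∧ IsAffine V₁.left ∧ Etale oU.left ∧ Etale oV.left ∧ x ∈ Set.range oU.left ∧
      r ≫ oV = oU ≫ k := fun x => by
    obtain ⟨_, ⟨V₁', hV₁, rfl⟩, hxV, -⟩ :=
      V.left.isBasis_affineOpens.exists_subset_of_mem_open (Set.mem_univ (k.left x)) isOpen_univ
    let V₁ : V.left.Opens := V₁'
    obtain ⟨_, ⟨U₁', hU₁, rfl⟩, hxU, hle⟩ :=
      U.left.isBasis_affineOpens.exists_subset_of_mem_open (show x ∈ (k.left ⁻¹ᵁ V₁ : U.left.Opens) from hxV)
        (k.left ⁻¹ᵁ V₁).isOpen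
    let U₁ : U.left.Opens := U₁'
    let U₀ : Over S := Over.mk (U₁.ι ≫ U.hom)
    let V₀ : Over S := Over.mk (V₁.ι ≫ V.hom)
    let oU : U₀ ⟶ U := Over.homMk U₁.ι rfl
    let oV : V₀ ⟶ V := Over.homMk V₁.ι rfl
    refine ⟨U₀, V₀, oU, oV, Over.homMk (k.left.resLE V₁ U₁ hle) (by
      show _ ≫ _ ≫ V.hom = _ ≫ U.hom
      rw [Scheme.Hom.resLE_comp_ι_assoc, Over.w k]), hU₁, hV₁, inferInstanceAs (Etale U₁.ι),
      inferInstanceAs (Etale V₁.ι), ⟨⟨x, hxU⟩, rfl⟩, Over.OverMorphism.ext (Scheme.Hom.resLE_comp_ι _ _)⟩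
  choose U₁ V₁ oU oV r hUa hVa hoU hoV hxU hr using hloc
  have hbV : ∀ x, RepWith @Etale ((yon S).map (oV x) ≫ b) := fun x => repWith_comp (repWith_map (hoV x)) hb
  have haU : ∀ x, RepWith @Etale ((yon S).map (oU x) ≫ a) := fun x => repWith_comp (repWith_map (hoU x)) ha
  have wx : ∀ x, ((yon S).map (oU x) ≫ a) ≫ h = (yon S).map (r x) ≫ (yon S).map (oV x) ≫ b := fun x => by
    rw [Category.assoc, w, ← Functor.map_comp_assoc, ← Functor.map_comp_assoc, hr]
  choose U' i k' hi hik hU using fun x => have := hUa x; have := hVa x; exists_univThick_affine (r x)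
    (locP_formallyUnramified hh _ _ (r x) (haU x) (hbV x) (wx x))
  obtain ⟨hC', hC'e⟩ := exists_desc (U := U') fun x => (yon S).map (k' x) ≫ (yon S).map (oV x) ≫ b
  let σ : coprodOver U₁ ⟶ U := Over.homMk (Sigma.desc fun x => (oU x).left)
    (Sigma.hom_ext _ _ fun x => by
      show Sigma.ι (fun x => (U₁ x).left) x ≫ Sigma.desc (fun x => (oU x).left) ≫ U.hom =
        Sigma.ι (fun x => (U₁ x).left) x ≫ Sigma.desc (fun x => (U₁ x).hom)
      rw [Sigma.ι_desc_assoc, Sigma.ι_desc, Over.w])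
  have hσ : ∀ x, coprodIncl U₁ x ≫ σ = oU x := fun x => Over.OverMorphism.ext (Sigma.ι_desc _ _)
  have hσe : Etale σ.left := IsZariskiLocalAtSource.sigmaDesc (P := @Etale) fun x => hoU x
  have hσs : Surjective σ.left := ⟨fun y => by
    obtain ⟨z, hz⟩ := hxU y
    refine ⟨(coprodIncl U₁ y).left z, ?_⟩
    rw [← Scheme.Hom.comp_apply, ← Over.comp_left, hσ]
    exact hz⟩
  let iC : coprodOver U₁ ⟶ coprodOver U' := Over.homMk (Limits.Sigma.map fun x => (i x).left)
    (Sigma.hom_ext _ _ fun x => by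
      show Sigma.ι (fun x => (U₁ x).left) x ≫ Limits.Sigma.map (fun x => (i x).left) ≫
        Sigma.desc (fun x => (U' x).hom) = Sigma.ι (fun x => (U₁ x).left) x ≫ Sigma.desc (fun x => (U₁ x).hom)
      rw [Sigma.ι_map_assoc, Sigma.ι_desc, Sigma.ι_desc, Over.w])
  have hiC : MoreMor.IsFirstOrderThickening iC.left :=
    isFirstOrder_sigmaMap (fun x => (U₁ x).left) (fun x => (U' x).left) (fun x => (i x).left) hi
  have hκ : ∀ x, coprodIncl U₁ x ≫ iC = i x ≫ coprodIncl U' x :=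
    fun x => Over.OverMorphism.ext (Sigma.ι_map (fun x => (i x).left) x)
  have hC : ∀ x, (yon S).map (coprodIncl U₁ x) ≫ ((yon S).map σ ≫ a) ≫ h =
      (yon S).map (r x) ≫ (yon S).map (oV x) ≫ b := fun x => by
    rw [Category.assoc, ← Functor.map_comp_assoc, hσ, ← Category.assoc, wx]
  have hiC' : (yon S).map iC ≫ hC' = ((yon S).map σ ≫ a) ≫ h := ext_of_etale_nhds _ _ fun y => by
    obtain ⟨x, z, hz⟩ := (sigmaOpenCover fun x => (U₁ x).left).exists_eq y
    refine ⟨_, coprodIncl U₁ x, inferInstanceAs (Etale (coprodIncl U₁ x).left), ⟨z, hz⟩, ?_⟩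
    rw [← Functor.map_comp_assoc, hκ, Functor.map_comp_assoc, hC'e, hC, ← Functor.map_comp_assoc, hik]
  refine ⟨coprodOver U₁, coprodOver U', (yon S).map σ ≫ a, iC, hC', repWith_comp (repWith_map hσe) ha,
    repWith_comp (repWith_map hσs) has, hiC,
    isUnivFOThick_of_univAff (isFOThickMor_yon_map hiC) hiC'
      (univAff_coprod i hi (fun x => univAff_comp_etale (hU x) (by rw [← Functor.map_comp, hik]) (hbV x))
        hC hC'e iC rfl)⟩

/-- The etale descent of a map along a thickening, as a pullback square of sheaves. -/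
theorem exists_etale_lift {U₀ U' R : Over S} {iU : U₀ ⟶ U'} (hiU : MoreMor.IsThickening iU.left)
    (p : R ⟶ U₀) [Etale p.left] :
    ∃ (R' : Over S) (t : R' ⟶ U') (iR : R ⟶ R'), Etale t.left ∧
      IsPullback ((yon S).map iR) ((yon S).map p) ((yon S).map t) ((yon S).map iU) := by
  obtain ⟨_, _⟩ := hiU
  obtain ⟨T', t₀, ρ, ht₀, sq⟩ := UHPush.exists_etale_descent iU.left
    ((Groth.L20.isUnivHomeo_iff iU.left).2 ⟨inferInstance, inferInstance, inferInstance⟩) p.left
  let R' : Over S := Over.mk (t₀ ≫ U'.hom)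
  let t : R' ⟶ U' := Over.homMk t₀ rfl
  let iR : R ⟶ R' := Over.homMk ρ (by
    show ρ ≫ t₀ ≫ U'.hom = R.hom
    rw [← Category.assoc, sq.w, Category.assoc, Over.w iU, Over.w p])
  exact ⟨R', t, iR, ht₀, (IsPullback.of_map (Over.forget S) (f := iR) (g := p) (h := t) (i := iU) (Over.OverMorphism.ext sq.w) sq).map (yon S)⟩

theorem exists_isUnivFOThick (hZ : IsAlgSpace Z) (hX : IsAlgSpace X) {h : Z ⟶ X}
    (hh : IsFormallyUnramifiedMor h) :
    ∃ (Z' : Sp S) (_ : IsAlgSpace Z') (i : Z ⟶ Z') (h' : Z' ⟶ X), IsUnivFOThick h i h' := by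
  obtain ⟨U₀, U', u, iU₀, hU', hu, hus, hiU₀, HU⟩ := exists_univThick_atlas hZ hX hh
  have := hiU₀.1.1
  set iU := (yon S).map iU₀ with hiUd
  have hiU : IsFOThickMor iU := isFOThickMor_yon_map hiU₀
  have : Mono iU := mono_of_closedImmersion (repWith_mono (fun φ (hφ : thick φ) => hφ.1) hiU.1)
  have hU'sp : IsAlgSpace ((yon S).obj U') := IsAlgSpace.yon_obj U'
  obtain ⟨R, p, q, sR⟩ := exists_isPullback_of_representable hu.1 u
  have : Etale p.left := repWith_prop hu sR.flip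
  have : Etale q.left := repWith_prop hu sR
  obtain ⟨P', tP, iP, htP, sP⟩ := exists_etale_lift hiU₀.1 p
  obtain ⟨Q', tQ, iQ, htQ, sQ⟩ := exists_etale_lift hiU₀.1 q
  have heP : RepWith @Etale ((yon S).map tP) := repWith_map htP
  have heQ : RepWith @Etale ((yon S).map tQ) := repWith_map htQ
  have HP := isUnivFOThick_etale_baseChange (IsAlgSpace.yon_obj P') hU'sp HU
    ((isEtaleMor_yon_map_iff tP).2 htP) sP.flip
  have HQ := isUnivFOThick_etale_baseChange (IsAlgSpace.yon_obj Q') hU'sp HU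
    ((isEtaleMor_yon_map_iff tQ).2 htQ) sQ.flip
  have hpq : (yon S).map p ≫ u ≫ h = (yon S).map q ≫ u ≫ h := by rw [reassoc_of% sR.w]
  have hRsp : IsAlgSpace ((yon S).obj R) := IsAlgSpace.yon_obj R
  obtain ⟨χ, ⟨hχ₁, hχ₂⟩, -⟩ := HQ.2.2 hRsp (IsAlgSpace.yon_obj P') ((yon S).map iP) (𝟙 _)
    ((yon S).map tP ≫ hU') HP.1 (by rw [HP.2.1, Category.id_comp, hpq])
  obtain ⟨χ', ⟨hχ₁', hχ₂'⟩, -⟩ := HP.2.2 hRsp (IsAlgSpace.yon_obj Q') ((yon S).map iQ) (𝟙 _)
    ((yon S).map tQ ≫ hU') HQ.1 (by rw [HQ.2.1, Category.id_comp, hpq])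
  rw [Category.id_comp] at hχ₁ hχ₁'
  have : IsIso χ := ⟨χ',
    (HP.2.2 hRsp (IsAlgSpace.yon_obj P') ((yon S).map iP) (𝟙 _) ((yon S).map tP ≫ hU') HP.1
      (by rw [HP.2.1, Category.id_comp])).unique
      ⟨by rw [reassoc_of% hχ₁, hχ₁', Category.id_comp], by rw [Category.assoc, hχ₂', hχ₂]⟩
      ⟨by simp, by simp⟩,
    (HQ.2.2 hRsp (IsAlgSpace.yon_obj Q') ((yon S).map iQ) (𝟙 _) ((yon S).map tQ ≫ hU') HQ.1
      (by rw [HQ.2.1, Category.id_comp])).unique
      ⟨by rw [reassoc_of% hχ₁', hχ₁, Category.id_comp], by rw [Category.assoc, hχ₂, hχ₂']⟩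
      ⟨by simp, by simp⟩⟩
  let t : (yon S).obj P' ⟶ (yon S).obj U' := (yon S).map tP
  let s : (yon S).obj P' ⟶ (yon S).obj U' := χ ≫ (yon S).map tQ
  have hs : RepWith @Etale s := repWith_comp (repWith_of_isIso χ) heQ
  have st : t ≫ hU' = s ≫ hU' := by
    show _ = (χ ≫ (yon S).map tQ) ≫ hU'
    rw [Category.assoc, hχ₂]
  have ss : IsPullback ((yon S).map iP) ((yon S).map q) s iU :=
    sQ.of_iso (Iso.refl _) (asIso χ).symm (Iso.refl _) (Iso.refl _)
      (by simp [← hχ₁]) (by simp) (by simp [s]) (by simp [iU])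
  have hp₁ : (yon S).map iP ≫ t = (yon S).map p ≫ iU := sP.w
  have hq₁ : (yon S).map iP ≫ s = (yon S).map q ≫ iU := ss.w
  -- a lift into `U'` is determined by its restriction and its image in `X`
  have huniq : ∀ {T T' : Sp S}, IsAlgSpace T → IsAlgSpace T' → ∀ (j : T ⟶ T'), IsFOThickMor j →
      ∀ (a : T ⟶ (yon S).obj U₀) (l l' : T' ⟶ (yon S).obj U'), j ≫ l = a ≫ iU → j ≫ l' = a ≫ iU →
        l ≫ hU' = l' ≫ hU' → l = l' := fun {T T'} hT hT' j hj a l l' e e' e'' =>
    (HU.2.2 hT hT' j a (l ≫ hU') hj (by rw [← Category.assoc, e, Category.assoc, HU.2.1])).unique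
      ⟨e, rfl⟩ ⟨e', e''.symm⟩
  -- reflexivity and symmetry
  obtain ⟨e', ⟨he₁, he₂⟩, -⟩ := HP.2.2 (IsAlgSpace.yon_obj U₀) hU'sp iU (sR.lift (𝟙 _) (𝟙 _) rfl) hU' hiU
    (by rw [HU.2.1, ← Category.assoc, sR.lift_fst, Category.id_comp])
  have he_t : e' ≫ t = 𝟙 _ := huniq (IsAlgSpace.yon_obj U₀) hU'sp iU hiU (𝟙 _) _ _
    (by rw [reassoc_of% he₁, hp₁, ← Category.assoc, sR.lift_fst])
    (by simp) (by rw [Category.assoc, Category.id_comp]; exact he₂)
  have he_s : e' ≫ s = 𝟙 _ := huniq (IsAlgSpace.yon_obj U₀) hU'sp iU hiU (𝟙 _) _ _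
    (by rw [reassoc_of% he₁, hq₁, ← Category.assoc, sR.lift_snd])
    (by simp) (by rw [Category.assoc, Category.id_comp, ← st]; exact he₂)
  obtain ⟨σ, ⟨hσ₁, hσ₂⟩, -⟩ := HP.2.2 hRsp (IsAlgSpace.yon_obj P') ((yon S).map iP)
    (sR.lift ((yon S).map q) ((yon S).map p) sR.w.symm) (t ≫ hU') HP.1
    (by rw [HP.2.1, sR.lift_fst_assoc, hpq])
  have hσt : σ ≫ t = s := huniq hRsp (IsAlgSpace.yon_obj P') _ HP.1 ((yon S).map q) _ _
    (by rw [reassoc_of% hσ₁, hp₁, sR.lift_fst_assoc]) hq₁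
    (by rw [Category.assoc]; exact hσ₂.trans st)
  have hσs : σ ≫ s = t := huniq hRsp (IsAlgSpace.yon_obj P') _ HP.1 ((yon S).map p) _ _
    (by rw [reassoc_of% hσ₁, hq₁, sR.lift_snd_assoc]) hp₁
    (by rw [Category.assoc, ← st]; exact hσ₂)
  -- composition
  let C' := pullback s t
  let C := pullback (pullback.fst s t ≫ s) iU
  have hC' : IsAlgSpace C' := isAlgSpace_of_isPullback hU'sp.diag (IsAlgSpace.yon_obj P') (IsAlgSpace.yon_obj P')
    (IsPullback.of_hasPullback s t)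
  have hC : IsAlgSpace C := isAlgSpace_of_isPullback hU'sp.diag hC' (IsAlgSpace.yon_obj U₀)
    (IsPullback.of_hasPullback (pullback.fst s t ≫ s) iU)
  let jC : C ⟶ C' := pullback.fst _ _
  let yC : C ⟶ (yon S).obj U₀ := pullback.snd _ _
  have hwC : jC ≫ pullback.fst s t ≫ s = yC ≫ iU := pullback.condition
  have hjC : IsFOThickMor jC := isFOThickMor_of_isPullback hU'sp hiU (IsPullback.of_hasPullback _ _).flip
  obtain ⟨r₁, h11, h12⟩ : ∃ r₁, r₁ ≫ (yon S).map iP = jC ≫ pullback.fst s t ∧ r₁ ≫ (yon S).map q = yC :=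
    ⟨ss.lift _ _ ((Category.assoc _ _ _).trans hwC), ss.lift_fst _ _ _, ss.lift_snd _ _ _⟩
  obtain ⟨r₂, h21, h22⟩ : ∃ r₂, r₂ ≫ (yon S).map iP = jC ≫ pullback.snd s t ∧ r₂ ≫ (yon S).map p = yC :=
    ⟨sP.lift _ _ (by rw [Category.assoc, ← pullback.condition, hwC]), sP.lift_fst _ _ _, sP.lift_snd _ _ _⟩
  obtain ⟨c₀, h31, h32⟩ : ∃ c₀, c₀ ≫ (yon S).map p = r₁ ≫ (yon S).map p ∧ c₀ ≫ (yon S).map q = r₂ ≫ (yon S).map q :=
    ⟨sR.lift _ _ (by rw [Category.assoc, sR.w, reassoc_of% h12, ← reassoc_of% h22, sR.w, Category.assoc]),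
      sR.lift_fst _ _ _, sR.lift_snd _ _ _⟩
  obtain ⟨c', ⟨hc₁, hc₂⟩, -⟩ := HP.2.2 hC hC' jC c₀ (pullback.fst s t ≫ t ≫ hU') hjC (by
    rw [reassoc_of% h31, ← HU.2.1, ← reassoc_of% hp₁, reassoc_of% h11])
  have hct : c' ≫ t = pullback.fst s t ≫ t := huniq hC hC' jC hjC (r₁ ≫ (yon S).map p) _ _
    (by rw [reassoc_of% hc₁, hp₁, ← Category.assoc, h31])
    (by rw [← reassoc_of% h11, hp₁, Category.assoc])
    (by rw [Category.assoc, Category.assoc]; exact hc₂)
  have hcs : c' ≫ s = pullback.snd s t ≫ s := huniq hC hC' jC hjC (r₂ ≫ (yon S).map q) _ _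
    (by rw [reassoc_of% hc₁, hq₁, ← Category.assoc, h32])
    (by rw [← reassoc_of% h21, hq₁, Category.assoc])
    ((Category.assoc _ _ _).trans ((congrArg (c' ≫ ·) st.symm).trans (hc₂.trans
      ((congrArg (pullback.fst s t ≫ ·) st).trans ((pullback.condition_assoc hU').trans
        ((congrArg (pullback.snd s t ≫ ·) st).trans (Category.assoc _ _ _).symm))))))
  -- the equivalence relation
  have hrel : IsEqvRelSp s t := by
    refine ⟨fun T x x' e₁ e₂ => ?_, fun T => ⟨fun a => ⟨a ≫ e', ?_, ?_⟩, ?_, ?_⟩⟩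
    · obtain ⟨T₀, jT, y, sT⟩ : ∃ (T₀ : Over S) (jT : T₀ ⟶ T) (y : (yon S).obj T₀ ⟶ (yon S).obj U₀),
          IsPullback y ((yon S).map jT) iU (x ≫ t) := ⟨_, _, _, hiU.1.1.isPullback (x ≫ t)⟩
      have hjT : MoreMor.IsThickening jT.left := isThickening_of_isThickMor hiU.1 sT.flip
      have w₁ : ((yon S).map jT ≫ x) ≫ t = y ≫ iU := by rw [Category.assoc, ← sT.w]
      have w₂ : ((yon S).map jT ≫ x') ≫ t = y ≫ iU := by rw [Category.assoc, ← e₁, ← sT.w]
      have key : sP.lift _ _ w₁ = sP.lift _ _ w₂ := sR.hom_ext (by rw [sP.lift_snd, sP.lift_snd]) (by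
        rw [← cancel_mono iU, Category.assoc, Category.assoc, ← hq₁, sP.lift_fst_assoc, sP.lift_fst_assoc,
          Category.assoc, Category.assoc, e₂])
      have hxx : (yon S).map jT ≫ x = (yon S).map jT ≫ x' := by
        have := congrArg (· ≫ (yon S).map iP) key
        simpa only [sP.lift_fst] using this
      exact (etale_thick_lift heP jT hjT _ (x ≫ t) (Category.assoc _ _ _)).unique ⟨rfl, rfl⟩ ⟨hxx.symm, e₁.symm⟩
    · rw [Category.assoc, he_t, Category.comp_id]
    · rw [Category.assoc, he_s, Category.comp_id]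
    · rintro a b ⟨x, rfl, rfl⟩
      exact ⟨x ≫ σ, by rw [Category.assoc, hσt], by rw [Category.assoc, hσs]⟩
    · rintro a b c ⟨x, rfl, hxb⟩ ⟨x', hx'b, rfl⟩
      exact ⟨pullback.lift x x' (hxb.trans hx'b.symm) ≫ c', by rw [Category.assoc, hct, pullback.lift_fst_assoc],
        by rw [Category.assoc, hcs, pullback.lift_snd_assoc]⟩
  -- the quotient
  let π := quotSpπ s t
  have : Epi π := Groth.L24.Boot.epi_quotSpπ s t
  have sπ : IsPullback t s π π := Groth.L24.Boot.isPullback_quotSpπ hrel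
  have hQ : IsAlgSpace (quotSp s t) := Groth.L24.Boot.isAlgSpace_of_kernelPair sπ (IsAlgSpace.yon_obj P') hU'sp
    (locP_of_repWith etLocal_flat (repWith_mono (fun φ (hφ : Etale φ) => inferInstanceAs (Flat φ)) heP))
    (locP_of_repWith etLocal_lfp
      (repWith_mono (fun φ (hφ : Etale φ) => inferInstanceAs (LocallyOfFinitePresentation φ)) heP))
  have : Sheaf.IsLocallySurjective π := (Sheaf.isLocallySurjective_iff_epi' _ π).2 inferInstance
  have hπr : Representable π := hQ.representable_from_yon π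
  have hsS : RepWith @Surjective s := repWith_surjective_of_map hs.1 fun y =>
    ⟨Points.map e' y, by rw [← Points.map_comp, he_s, Points.map_id]⟩
  have hπe : RepWith @Etale π := by
    have := isLocalAtTarget_fppf (@Etale : MorphismProperty Scheme.{u})
    exact repWith_of_locallySurjective hπr sπ hs
  have hπs : RepWith @Surjective π := by
    have := isLocalAtTarget_fppf (@Surjective : MorphismProperty Scheme.{u})
    exact repWith_of_locallySurjective hπr sπ hsS
  have := epi_of_repWith u hu hus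
  obtain ⟨hcol⟩ := nonempty_isColimit_cofork u sR
  have hcomp : (yon S).map p ≫ iU ≫ π = (yon S).map q ≫ iU ≫ π := by
    rw [← reassoc_of% hp₁, ← reassoc_of% hq₁, sπ.w]
  obtain ⟨i, hi⟩ : ∃ i, u ≫ i = iU ≫ π :=
    ⟨hcol.desc (Cofork.ofπ _ hcomp), hcol.fac (Cofork.ofπ _ hcomp) WalkingParallelPair.one⟩
  let h' := quotSpDesc hU' st.symm
  have hh' : i ≫ h' = h := by
    rw [← cancel_epi u, reassoc_of% hi, quotSpπ_desc]
    exact HU.2.1
  have sU : IsPullback iU u π i := isPullback_descend hu hus hi sπ sR.w sP hq₁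
  have hcov : IsFppfCover (fun _ : PUnit.{u + 1} => (yon S).obj U') (fun _ => π) :=
    ⟨fun _ => ⟨locP_of_repWith etLocal_flat (repWith_mono (fun φ (hφ : Etale φ) => inferInstanceAs (Flat φ)) hπe),
      locP_of_repWith etLocal_lfp
        (repWith_mono (fun φ (hφ : Etale φ) => inferInstanceAs (LocallyOfFinitePresentation φ)) hπe)⟩,
      fun x => ⟨PUnit.unit, surjective_map_of_repWith hπs x⟩⟩
  have hithick : IsThickMor i :=
    (isLocalOnBase_fpqc_thick (fun _ : PUnit.{u + 1} => (yon S).obj U') (fun _ => π) hQ (fun _ => hU'sp)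
      (isFpqcCover_of_isFppfCover hQ (fun _ => hU'sp) hcov) i hZ (fun _ => (yon S).obj U₀) (fun _ => iU)
      (fun _ => u) (fun _ => IsAlgSpace.yon_obj U₀) (fun _ => sU.flip)).2 fun _ => hiU.1
  have hiFO : IsFOThickMor i := isFOThickMor_of_atlas hithick hπe hπs sU hiU₀
  refine ⟨quotSp s t, hQ, i, h', ?_⟩
  refine isUnivFOThick_descend (IsAlgSpace.yon_obj U₀) hU'sp hQ
    (Groth.L24.St.isEtaleMor_of_repWith hu) (surjective_map_of_repWith hus) hiFO
    (Groth.L24.St.isEtaleMor_of_repWith hπe) hi.symm hh' ?_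
  rw [quotSpπ_desc]
  exact HU

end Groth.L09.UnivThick
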