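import Groth.Agent.L23.InfSpace2
import Groth.Agent.L23.SchKer
import Mathlib.RingTheory.Unramified.Basic

/-!
# Ideal sheaves along flat surjections, and an unramifiedness criterion
-/

universe u

open CategoryTheory CategoryTheory.Limits AlgebraicGeometry
open scoped TensorProduct

set_option backward.isDefEq.respectTransparency.types false

namespace Groth.L09.UnivThick

/-- Containment of ideal sheaves descends along flat surjections. -/
theorem le_of_comap_le {X Y : Scheme.{u}} (π : X ⟶ Y) [Flat π] [Surjective π] {I J : Y.IdealSheafData}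
    (h : I.comap π ≤ J.comap π) : I ≤ J := by
  let π' := pullback.snd π J.subschemeι
  have h0 : J.comap J.subschemeι = ⊥ := le_bot_iff.1 (Scheme.IdealSheafData.le_map_iff_comap_le.1
    (by rw [Scheme.IdealSheafData.map_bot, Scheme.IdealSheafData.ker_subschemeι]))
  have h1 : (I.comap J.subschemeι).comap π' = ⊥ := by
    refine le_bot_iff.1 ?_
    rw [← Scheme.IdealSheafData.comap_comp, ← pullback.condition, Scheme.IdealSheafData.comap_comp]
    refine (Scheme.IdealSheafData.comap_mono _ h).trans ?_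
    show (J.comap π).comap (pullback.fst π J.subschemeι) ≤ ⊥
    rw [← Scheme.IdealSheafData.comap_comp, pullback.condition, Scheme.IdealSheafData.comap_comp, h0,
      Scheme.IdealSheafData.comap_bot]
  have h2 : I.comap J.subschemeι ≤ ⊥ := by
    have := Scheme.IdealSheafData.le_map_iff_comap_le.2 h1.le
    rw [Scheme.IdealSheafData.map_bot] at this
    refine this.trans ?_
    have h3 := Groth.L23.SchKer.ker_comp_of_flat_surjective π' (𝟙 J.subscheme)
    rw [Category.comp_id] at h3
    rw [h3, Scheme.Hom.ker_eq_bot_of_isIso]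
  have := Scheme.IdealSheafData.le_map_iff_comap_le.2 h2
  rwa [Scheme.IdealSheafData.map_bot, Scheme.IdealSheafData.ker_subschemeι] at this

theorem eq_of_comap_eq {X Y : Scheme.{u}} (π : X ⟶ Y) [Flat π] [Surjective π] {I J : Y.IdealSheafData}
    (h : I.comap π = J.comap π) : I = J :=
  le_antisymm (le_of_comap_le π h.le) (le_of_comap_le π h.ge)

theorem eq_bot_of_comap_eq_bot {X Y : Scheme.{u}} (π : X ⟶ Y) [Flat π] [Surjective π]
    {I : Y.IdealSheafData} (h : I.comap π = ⊥) : I = ⊥ :=
  eq_of_comap_eq π (h.trans (Scheme.IdealSheafData.comap_bot _).symm)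

/-- If no two maps out of `A` over `R` that agree with `A ⟶ A ⧸ C` modulo a square-zero ideal
differ, `C` being of square zero, then `R ⟶ A` is formally unramified. -/
theorem formallyUnramified_of_unique {R A : Type u} [CommRing R] [CommRing A] [Algebra R A]
    (C : Ideal A) (hC : C ^ 2 = ⊥)
    (H : ∀ (B : Type u) [CommRing B] [Algebra R B] (ψ₀ ψ₁ : A →ₐ[R] B) (π : B →+* A ⧸ C),
      Function.Surjective π → RingHom.ker π ^ 2 = ⊥ → π.comp ψ₀.toRingHom = Ideal.Quotient.mk C →
      π.comp ψ₁.toRingHom = Ideal.Quotient.mk C → ψ₀ = ψ₁) :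
    Algebra.FormallyUnramified R A := by
  let J : Ideal (A ⊗[R] A) := KaehlerDifferential.ideal R A
  let π : A ⊗[R] A →+* A ⧸ C := (Ideal.Quotient.mk C).comp (Algebra.TensorProduct.lmul' R).toRingHom
  let L : Ideal (A ⊗[R] A) := RingHom.ker π
  let C₁ : Ideal (A ⊗[R] A) := C.map Algebra.TensorProduct.includeLeftRingHom
  have hJL : J ≤ L := fun x hx => by
    have h0 : Algebra.TensorProduct.lmul' R (S := A) x = 0 := hx
    show Ideal.Quotient.mk C (Algebra.TensorProduct.lmul' R (S := A) x) = 0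
    rw [h0, map_zero]
  have hCL : C₁ ≤ L := Ideal.map_le_iff_le_comap.2 fun c hc => by
    show Ideal.Quotient.mk C (Algebra.TensorProduct.lmul' R (S := A) (c ⊗ₜ 1)) = 0
    rw [Algebra.TensorProduct.lmul'_apply_tmul, mul_one]
    exact Ideal.Quotient.eq_zero_iff_mem.2 hc
  have hL : L ≤ J ⊔ C₁ := fun x hx => by
    let c := Algebra.TensorProduct.lmul' R (S := A) x
    have hc : c ∈ C := Ideal.Quotient.eq_zero_iff_mem.1 hx
    have : x - c ⊗ₜ 1 ∈ J := by
      show Algebra.TensorProduct.lmul' R (S := A) (x - c ⊗ₜ 1) = 0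
      rw [map_sub, Algebra.TensorProduct.lmul'_apply_tmul, mul_one, sub_self]
    rw [← sub_add_cancel x (c ⊗ₜ 1)]
    exact Submodule.add_mem_sup this (Ideal.mem_map_of_mem _ hc)
  have hC₁ : C₁ * C₁ = ⊥ := by rw [← Ideal.map_mul, ← pow_two, hC, Ideal.map_bot]
  have hLL : L * L ≤ L * J := by
    refine (Ideal.mul_mono_right hL).trans ?_
    rw [Ideal.mul_sup]
    refine sup_le le_rfl ((Ideal.mul_mono_left hL).trans ?_)
    rw [Ideal.sup_mul, hC₁, sup_bot_eq, mul_comm L J]
    exact Ideal.mul_mono_right hCL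
  have hker : L * J ≤ RingHom.ker π := Ideal.mul_le_right.trans le_rfl |>.trans hJL
  let π' : (A ⊗[R] A) ⧸ (L * J) →+* A ⧸ C := Ideal.Quotient.lift _ π fun a ha => hker ha
  have hπ : Function.Surjective π' := fun y => by
    obtain ⟨a, rfl⟩ := Ideal.Quotient.mk_surjective y
    refine ⟨Ideal.Quotient.mk _ (a ⊗ₜ 1), ?_⟩
    show Ideal.Quotient.mk C (Algebra.TensorProduct.lmul' R (S := A) (a ⊗ₜ 1)) = _
    rw [Algebra.TensorProduct.lmul'_apply_tmul, mul_one]
  have hπ' : RingHom.ker π' ^ 2 = ⊥ := by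
    rw [pow_two, show RingHom.ker π' = L.map (Ideal.Quotient.mk (L * J)) from
      Ideal.ker_quotient_lift _ hker, ← Ideal.map_mul, Ideal.map_eq_bot_iff_le_ker, Ideal.mk_ker]
    exact hLL
  have key := H _ ((Ideal.Quotient.mkₐ R (L * J)).comp Algebra.TensorProduct.includeLeft)
    ((Ideal.Quotient.mkₐ R (L * J)).comp Algebra.TensorProduct.includeRight) π' hπ hπ'
    (RingHom.ext fun a => by
      show Ideal.Quotient.mk C (Algebra.TensorProduct.lmul' R (S := A) (a ⊗ₜ 1)) = _
      rw [Algebra.TensorProduct.lmul'_apply_tmul, mul_one])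
    (RingHom.ext fun a => by
      show Ideal.Quotient.mk C (Algebra.TensorProduct.lmul' R (S := A) (1 ⊗ₜ a)) = _
      rw [Algebra.TensorProduct.lmul'_apply_tmul, one_mul])
  have hJ : J ≤ L * J := by
    show KaehlerDifferential.ideal R A ≤ _
    rw [← KaehlerDifferential.span_range_eq_ideal, Ideal.span_le]
    rintro _ ⟨a, rfl⟩
    exact Ideal.Quotient.eq.1 (congr($key a)).symm
  have hJ2 : J ≤ J * J := by
    refine hJ.trans ((Ideal.mul_mono_right hJ).trans ?_)
    rw [← mul_assoc]
    refine (Ideal.mul_mono_left hLL).trans ?_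
    rw [mul_assoc]
    exact Ideal.mul_le_right
  rw [Algebra.formallyUnramified_iff]
  exact (Ideal.cotangent_subsingleton_iff _).2 (le_antisymm Ideal.mul_le_right hJ2)

end Groth.L09.UnivThick
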