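import Groth.Agent.L09.UnivThick.Basic

/-!
# The first infinitesimal neighbourhood as a universal thickening
-/

universe u

open CategoryTheory CategoryTheory.Limits AlgebraicGeometry AlgSp Opposite

set_option backward.isDefEq.respectTransparency.types false

namespace Groth.L09.UnivThick

open Groth.L23

variable {S : Scheme.{u}} {Z Zn X : Sp S} {n : ℕ} {i : Z ⟶ X} {j : Z ⟶ Zn} {k : Zn ⟶ X}

theorem ker_infNbhd_chart (hN : IsInfNbhd n i j k) {V W Wn : Over S} {b : (yon S).obj V ⟶ X}
    (hb : RepWith @Etale b) {fst : (yon S).obj W ⟶ Z} {snd : W ⟶ V}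
    {fstn : (yon S).obj Wn ⟶ Zn} {sndn : Wn ⟶ V}
    (sq : IsPullback fst ((yon S).map snd) i b) (sqn : IsPullback fstn ((yon S).map sndn) k b) :
    sndn.left.ker = snd.left.ker ^ (n + 1) := by
  obtain ⟨-, hi, hk, hN⟩ := hN
  have : IsClosedImmersion snd.left := repWith_prop hi sq
  have : IsClosedImmersion sndn.left := repWith_prop hk sqn
  ext O : 2
  let V₀ : Over S := Over.mk (O.1.ι ≫ V.hom)
  let o : V₀ ⟶ V := Over.homMk O.1.ι rfl
  have hE : RepWith @Etale ((yon S).map o ≫ b) :=
    repWith_comp (repWith_map (show Etale o.left from inferInstanceAs (Etale O.1.ι))) hb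
  have s₁ : IsPullback (pullback.fst o snd) (pullback.snd o snd) o snd := IsPullback.of_hasPullback _ _
  have s₂ : IsPullback (pullback.fst o sndn) (pullback.snd o sndn) o sndn := IsPullback.of_hasPullback _ _
  have h := hN ((yon S).map o ≫ b) ((yon S).map (pullback.snd o snd) ≫ fst) (pullback.fst o snd)
    ((yon S).map (pullback.snd o sndn) ≫ fstn) (pullback.fst o sndn)
    (show IsAffine O.1.toScheme from O.2) hE
    ((s₁.map (yon S)).paste_vert sq.flip).flip ((s₂.map (yon S)).paste_vert sqn.flip).flip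
  rw [ker_comap_of_isPullback s₁, ker_comap_of_isPullback s₂, ← Groth.L17.Thick.comap_pow] at h
  have h0 := congr(($h).ideal ⟨⊤, @isAffineOpen_top _ O.2⟩)
  change (sndn.left.ker.comap O.1.ι).ideal ⟨⊤, @isAffineOpen_top _ O.2⟩ =
    ((snd.left.ker ^ (n + 1)).comap O.1.ι).ideal ⟨⊤, @isAffineOpen_top _ O.2⟩ at h0
  rw [Groth.L22.Ideals.comap_ideal_ι, Groth.L22.Ideals.comap_ideal_ι] at h0
  have hbij : Function.Bijective O.1.topIso.inv := ConcreteCategory.bijective_of_isIso O.1.topIso.inv
  rw [← Ideal.comap_map_of_bijective O.1.topIso.inv.hom hbij (I := sndn.left.ker.ideal O), h0,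
    Ideal.comap_map_of_bijective O.1.topIso.inv.hom hbij]

/-- The kernel of any base change of an infinitesimal neighbourhood is the power of that of the
closed subspace. -/
theorem ker_infNbhd (hX : IsAlgSpace X) (hN : IsInfNbhd n i j k) {V W Wn : Over S}
    {b : (yon S).obj V ⟶ X} {fst : (yon S).obj W ⟶ Z} {snd : W ⟶ V}
    {fstn : (yon S).obj Wn ⟶ Zn} {sndn : Wn ⟶ V}
    (sq : IsPullback fst ((yon S).map snd) i b) (sqn : IsPullback fstn ((yon S).map sndn) k b) :
    sndn.left.ker = snd.left.ker ^ (n + 1) := by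
  obtain ⟨-, hi, hk, -⟩ := id hN
  have : IsClosedImmersion snd.left := repWith_prop hi sq
  have : IsClosedImmersion sndn.left := repWith_prop hk sqn
  obtain ⟨A, q, hq, hqs⟩ := hX.atlas
  obtain ⟨P, πA, πV, sP⟩ := exists_isPullback_of_representable hq.1 b
  have he : Etale πV.left := repWith_prop hq sP
  have hs : Surjective πV.left := repWith_prop hqs sP
  have sA := hi.1.isPullback q
  have sAn := hk.1.isPullback q
  have : IsClosedImmersion (hi.1.snd q).left := repWith_prop hi sA
  have : IsClosedImmersion (hk.1.snd q).left := repWith_prop hk sAn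
  have hA := ker_infNbhd_chart hN hq sA sAn
  refine eq_of_comap_eq πV.left ?_
  have key : ∀ {F : Sp S} {g : F ⟶ X} (hg : RepWith @IsClosedImmersion g) {B B' : Over S}
      {f₁ : (yon S).obj B ⟶ F} {g₁ : B ⟶ A} {f₂ : (yon S).obj B' ⟶ F} {g₂ : B' ⟶ V},
      IsPullback f₁ ((yon S).map g₁) g q → IsPullback f₂ ((yon S).map g₂) g b →
      g₂.left.ker.comap πV.left = g₁.left.ker.comap πA.left := by
    intro F g hg B B' f₁ g₁ f₂ g₂ s₁ s₂
    have : IsClosedImmersion g₁.left := repWith_prop hg s₁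
    have : IsClosedImmersion g₂.left := repWith_prop hg s₂
    have t₁ : IsPullback (pullback.fst πA g₁) (pullback.snd πA g₁) πA g₁ := IsPullback.of_hasPullback _ _
    have t₂ : IsPullback (pullback.fst πV g₂) (pullback.snd πV g₂) πV g₂ := IsPullback.of_hasPullback _ _
    rw [← ker_comap_of_isPullback t₁, ← ker_comap_of_isPullback t₂]
    have u₁ := (t₁.map (yon S)).paste_vert s₁.flip
    have u₂ := (t₂.map (yon S)).paste_vert s₂.flip
    rw [sP.w] at u₁
    obtain ⟨e, he⟩ := (yon S).map_surjective (u₂.lift ((yon S).map (pullback.fst πA g₁))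
      ((yon S).map (pullback.snd πA g₁) ≫ f₁) u₁.w)
    have hee : (yon S).map e = (IsPullback.isoIsPullback _ _ u₁ u₂).hom := by
      rw [he]; exact u₂.hom_ext (by simp) (by simp)
    have : IsIso ((yon S).map e) := hee ▸ inferInstance
    have : IsIso e := isIso_of_fully_faithful (yon S) e
    have : IsIso e.left := inferInstanceAs (IsIso ((Over.forget S).map e))
    have h3 : e ≫ pullback.fst πV g₂ = pullback.fst πA g₁ :=
      (yon S).map_injective (by rw [(yon S).map_comp, he, u₂.lift_fst])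
    rw [← h3]
    show _ = (e.left ≫ (pullback.fst πV g₂).left).ker
    rw [Scheme.Hom.ker_comp_of_isIso]
  rw [Groth.L17.Thick.comap_pow, key hk sAn sqn, key hi sA sq, ← Groth.L17.Thick.comap_pow, hA]

theorem isFOThickMor_infNbhd_one {Z Z₁ X : Sp S} {i : Z ⟶ X} {j : Z ⟶ Z₁} {k : Z₁ ⟶ X}
    (hX : IsAlgSpace X) (hN : IsInfNbhd 1 i j k) : IsFOThickMor j := by
  obtain ⟨hjk, hi, hk, -⟩ := id hN
  have : Mono k := mono_of_closedImmersion hk
  have sj : IsPullback (𝟙 Z) j i k := IsPullback.mk' (by rw [Category.id_comp, hjk])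
    (fun _ φ φ' h₁ _ => by simpa using h₁)
    (fun _ a b h => ⟨a, Category.comp_id _, by rw [← cancel_mono k, Category.assoc, hjk]; exact h⟩)
  have hj : RepWith @IsClosedImmersion j := repWith_of_isPullback sj hi
  have hsq : ∀ ⦃V : Over S⦄ (b : (yon S).obj V ⟶ Z₁) ⦃W : Over S⦄ (fst : (yon S).obj W ⟶ Z) (snd : W ⟶ V),
      IsPullback fst ((yon S).map snd) j b → MoreMor.IsFirstOrderThickening snd.left := by
    intro V b W fst snd sq
    have : IsClosedImmersion snd.left := repWith_prop hj sq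
    have s₁ : IsPullback fst ((yon S).map snd) i (b ≫ k) := by
      have := sq.paste_horiz sj
      rwa [Category.comp_id] at this
    have s₂ : IsPullback b ((yon S).map (𝟙 V)) k (b ≫ k) := by
      rw [CategoryTheory.Functor.map_id]
      exact IsPullback.mk' (by simp) (fun _ φ φ' _ h => by simpa using h)
        (fun _ a c h => ⟨c, by rw [← cancel_mono k]; simpa using h.symm, Category.comp_id _⟩)
    have h := ker_infNbhd hX hN s₁ s₂
    rw [show (𝟙 V : V ⟶ V).left = 𝟙 V.left from rfl, Scheme.Hom.ker_eq_bot_of_isIso, pow_two] at h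
    refine ⟨⟨inferInstance, ⟨fun v => ?_⟩⟩, h.symm⟩
    have hz : ((snd.left.ker * snd.left.ker).support : Set V.left) = Set.univ := by simp [← h]
    rw [Scheme.IdealSheafData.support_mul, TopologicalSpace.Closeds.coe_sup, Set.union_self,
      Scheme.Hom.support_ker, snd.left.isClosedEmbedding.isClosed_range.closure_eq] at hz
    exact hz.ge (Set.mem_univ v)
  exact ⟨repWith_of_exists fun V b => ⟨_, _, _, hj.1.isPullback b, (hsq b _ _ (hj.1.isPullback b)).1⟩,
    fun V W b fst snd _ _ sq => (hsq b fst snd sq).2⟩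

theorem isUnivFOThick_infNbhd {Z Z₁ U X : Sp S} {c : Z ⟶ U} {j : Z ⟶ Z₁} {k : Z₁ ⟶ U} {u : U ⟶ X}
    (hU : IsAlgSpace U) (hN : IsInfNbhd 1 c j k) (hu : RepWith @IsOpenImmersion u) :
    IsUnivFOThick (c ≫ u) j (k ≫ u) := by
  obtain ⟨hjk, hc, hk, -⟩ := id hN
  have : Mono k := mono_of_closedImmersion hk
  have : Mono u := mono_of_openImmersion hu
  refine isUnivFOThick_of_univAff (isFOThickMor_infNbhd_one hU hN) (by rw [← Category.assoc, hjk])
    fun T T' jT hT' hjT a b w => ?_
  have hFO := isFirstOrderThickening_of_isFOThickMor_yon_map hT' hjT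
  have := hFO.1.1
  have := hFO.1.2
  -- the map to `X` factors through `U`
  have sO := hu.1.isPullback b
  have : IsOpenImmersion (hu.1.snd b).left := repWith_prop hu sO
  obtain ⟨σ, hσ⟩ := (yon S).map_surjective (sO.lift (a ≫ c) ((yon S).map jT) (by rw [Category.assoc, w]))
  have hσ₂ : σ ≫ hu.1.snd b = jT := (yon S).map_injective (by rw [(yon S).map_comp, hσ, sO.lift_snd])
  have : Surjective (hu.1.snd b).left := ⟨fun x => by
    obtain ⟨t, ht⟩ := jT.left.surjective x
    exact ⟨σ.left t, by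
      rw [← Scheme.Hom.comp_apply, show σ.left ≫ (hu.1.snd b).left = jT.left from congr($(hσ₂).left)]
      exact ht⟩⟩
  have : Epi (hu.1.snd b).left.base :=
    (TopCat.epi_iff_surjective _).2 (hu.1.snd b).left.surjective
  have : IsIso (hu.1.snd b).left := (isIso_iff_isOpenImmersion_and_epi_base _).2 ⟨inferInstance, inferInstance⟩
  have : IsIso (hu.1.snd b) := by
    have : IsIso ((Over.forget S).map (hu.1.snd b)) := ‹_›
    exact isIso_of_reflects_iso _ (Over.forget S)
  obtain ⟨b', hb'⟩ : ∃ b' : (yon S).obj T' ⟶ U, b' ≫ u = b :=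
    ⟨inv ((yon S).map (hu.1.snd b)) ≫ hu.1.fst b, by rw [Category.assoc, sO.w, IsIso.inv_hom_id_assoc]⟩
  have w' : (yon S).map jT ≫ b' = a ≫ c := by rw [← cancel_mono u, Category.assoc, hb', w, Category.assoc]
  -- and then through the neighbourhood
  have sP := hc.1.isPullback b'
  have sQ := hk.1.isPullback b'
  have hker := ker_infNbhd hU hN sP sQ
  have : IsClosedImmersion (hc.1.snd b').left := repWith_prop hc sP
  have : IsClosedImmersion (hk.1.snd b').left := repWith_prop hk sQ
  obtain ⟨τ, hτ⟩ := (yon S).map_surjective (sP.lift a ((yon S).map jT) w'.symm)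
  have hτ₂ : τ ≫ hc.1.snd b' = jT := (yon S).map_injective (by rw [(yon S).map_comp, hτ, sP.lift_snd])
  have hle : (hc.1.snd b').left.ker ≤ jT.left.ker := by
    rw [← show τ.left ≫ (hc.1.snd b').left = jT.left from congr($(hτ₂).left)]
    exact Scheme.Hom.le_ker_comp _ _
  have hbot : (hk.1.snd b').left.ker = ⊥ := by
    rw [hker, pow_two]
    refine le_bot_iff.1 (le_of_le_of_eq ?_ hFO.2)
    intro O
    rw [Scheme.IdealSheafData.ideal_mul, Scheme.IdealSheafData.ideal_mul]
    exact Ideal.mul_mono (hle O) (hle O)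
  have : IsIso (hk.1.snd b').left := IsClosedImmersion.isIso_iff_ker_eq_bot.2 hbot
  have : IsIso (hk.1.snd b') := by
    have : IsIso ((Over.forget S).map (hk.1.snd b')) := ‹_›
    exact isIso_of_reflects_iso _ (Over.forget S)
  obtain ⟨a', ha'⟩ : ∃ a' : (yon S).obj T' ⟶ Z₁, a' ≫ k = b' :=
    ⟨inv ((yon S).map (hk.1.snd b')) ≫ hk.1.fst b', by rw [Category.assoc, sQ.w, IsIso.inv_hom_id_assoc]⟩
  refine ⟨a', ⟨?_, by rw [← Category.assoc, ha', hb']⟩, fun x hx => ?_⟩
  · rw [← cancel_mono k, Category.assoc, ha', w', Category.assoc, hjk]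
  · rw [← cancel_mono k, ← cancel_mono u, Category.assoc, hx.2, ha', hb']

end Groth.L09.UnivThick
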