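import Mathlib.RingTheory.Unramified.Basic
import Mathlib.RingTheory.Kaehler.Basic
import Mathlib.RingTheory.MvPolynomial.Basic
import Mathlib.LinearAlgebra.TensorProduct.Quotient

/-!
# The universal first order thickening of a formally unramified algebra
-/

universe u

open scoped TensorProduct

namespace Groth.L09.UnivThick

variable {R P : Type u} [CommRing R] [CommRing P] [Algebra R P]

theorem exists_mem_D_sub_mem_smul (K : Ideal P) [Algebra.FormallyUnramified R (P ⧸ K)] (e : P) :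
    ∃ f ∈ K, KaehlerDifferential.D R P f - KaehlerDifferential.D R P e ∈
      K • (⊤ : Submodule P (Ω[P⁄R])) := by
  obtain ⟨z, hz⟩ := (KaehlerDifferential.exact_kerCotangentToTensor_mapBaseChange R P (P ⧸ K)
    Ideal.Quotient.mk_surjective ((1 : P ⧸ K) ⊗ₜ[P] KaehlerDifferential.D R P e)).1 (Subsingleton.elim _ _)
  obtain ⟨⟨f, hf⟩, rfl⟩ := Ideal.toCotangent_surjective _ z
  rw [KaehlerDifferential.kerCotangentToTensor_toCotangent] at hz
  refine ⟨f, Ideal.Quotient.eq_zero_iff_mem.1 hf, ?_⟩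
  have h := congrArg (TensorProduct.quotTensorEquivQuotSMul (Ω[P⁄R]) K) hz
  change TensorProduct.quotTensorEquivQuotSMul (Ω[P⁄R]) K (Ideal.Quotient.mk K 1 ⊗ₜ _) =
    TensorProduct.quotTensorEquivQuotSMul (Ω[P⁄R]) K (Ideal.Quotient.mk K 1 ⊗ₜ _) at h
  rw [TensorProduct.quotTensorEquivQuotSMul_mk_tmul, TensorProduct.quotTensorEquivQuotSMul_mk_tmul,
    one_smul, one_smul] at h
  exact (Submodule.Quotient.eq _).1 h

/-- Two maps agreeing modulo a square zero ideal differ equally on elements with congruent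
differentials. -/
theorem sub_eq_sub_of_D_sub_mem {B : Type u} [CommRing B] [Algebra R B] {I : Ideal B} (hI : I ^ 2 = ⊥)
    (ψ₀ ψ₁ : P →ₐ[R] B) (hd : ∀ p, ψ₁ p - ψ₀ p ∈ I) {K : Ideal P} (hK : ∀ k ∈ K, ψ₀ k ∈ I) {f e : P}
    (h : KaehlerDifferential.D R P f - KaehlerDifferential.D R P e ∈ K • (⊤ : Submodule P (Ω[P⁄R]))) :
    ψ₁ f - ψ₀ f = ψ₁ e - ψ₀ e := by
  let := ψ₀.toRingHom.toAlgebra
  have : IsScalarTower R P B := IsScalarTower.of_algebraMap_eq fun r => (ψ₀.commutes r).symm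
  let δ : Derivation R P I := Derivation.mk'
    { toFun := fun p => ⟨ψ₁ p - ψ₀ p, hd p⟩
      map_add' := fun p q => Subtype.ext (by simp only [map_add, Submodule.coe_add]; ring)
      map_smul' := fun r p => Subtype.ext (by
        simp only [map_smul, RingHom.id_apply, Submodule.coe_smul_of_tower, smul_sub]) }
    fun p q => Subtype.ext (by
      show ψ₁ (p * q) - ψ₀ (p * q) = ψ₀ p * (ψ₁ q - ψ₀ q) + ψ₀ q * (ψ₁ p - ψ₀ p)
      have h0 : (ψ₁ p - ψ₀ p) * (ψ₁ q - ψ₀ q) = 0 := by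
        have := Ideal.mul_mem_mul (hd p) (hd q)
        rwa [← pow_two, hI, Ideal.mem_bot] at this
      rw [map_mul, map_mul]
      linear_combination h0)
  have hL : δ.liftKaehlerDifferential (KaehlerDifferential.D R P f - KaehlerDifferential.D R P e) = 0 := by
    refine Submodule.smul_induction_on h (fun k hk n _ => ?_) fun x y hx hy => by rw [map_add, hx, hy, add_zero]
    rw [map_smul]
    refine Subtype.ext ?_
    show ψ₀ k * (δ.liftKaehlerDifferential n : B) = 0
    have := Ideal.mul_mem_mul (hK k hk) (δ.liftKaehlerDifferential n).2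
    rwa [← pow_two, hI, Ideal.mem_bot] at this
  rw [map_sub, Derivation.liftKaehlerDifferential_comp_D, Derivation.liftKaehlerDifferential_comp_D,
    sub_eq_zero] at hL
  exact congrArg Subtype.val hL

/-- The universal first order thickening of a formally unramified algebra. -/
theorem exists_univ_thickening_algebra (R A : Type u) [CommRing R] [CommRing A] [Algebra R A]
    [Algebra.FormallyUnramified R A] :
    ∃ (A' : Type u) (_ : CommRing A') (_ : Algebra R A') (π : A' →ₐ[R] A), Function.Surjective π ∧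
      RingHom.ker π ^ 2 = ⊥ ∧
      ∀ (B B₀ : Type u) [CommRing B] [CommRing B₀] [Algebra R B] [Algebra R B₀] (q : B →ₐ[R] B₀),
        Function.Surjective q → RingHom.ker q ^ 2 = ⊥ → ∀ α : A →ₐ[R] B₀,
        ∃! ψ : A' →ₐ[R] B, q.comp ψ = α.comp π := by
  let π₀ : MvPolynomial A R →ₐ[R] A := MvPolynomial.aeval id
  have hπ₀ : Function.Surjective π₀ := fun a => ⟨MvPolynomial.X a, MvPolynomial.aeval_X _ _⟩
  let K := RingHom.ker π₀
  have : Algebra.FormallyUnramified R (MvPolynomial A R ⧸ K) :=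
    Algebra.FormallyUnramified.of_equiv (Ideal.quotientKerAlgEquivOfSurjective hπ₀).symm
  choose f hfK hf using fun x : A => exists_mem_D_sub_mem_smul (R := R) K (MvPolynomial.X x)
  let N : Ideal (MvPolynomial A R) := K ^ 2 ⊔ Ideal.span (Set.range f)
  have hN : N ≤ K := sup_le (Ideal.pow_le_self two_ne_zero) (Ideal.span_le.2 (by rintro _ ⟨x, rfl⟩; exact hfK x))
  let π : (MvPolynomial A R ⧸ N) →ₐ[R] A := Ideal.Quotient.liftₐ N π₀ fun a ha => hN ha
  have hπ : Function.Surjective π := fun a => by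
    obtain ⟨p, rfl⟩ := hπ₀ a
    exact ⟨Ideal.Quotient.mk N p, rfl⟩
  refine ⟨_, inferInstance, inferInstance, π, hπ, ?_, fun B B₀ _ _ _ _ q hq hq2 α => ?_⟩
  · have hker : RingHom.ker π = K.map (Ideal.Quotient.mk N) := by
      refine le_antisymm (fun y hy => ?_) (Ideal.map_le_iff_le_comap.2 fun k hk => hk)
      obtain ⟨p, rfl⟩ := Ideal.Quotient.mk_surjective y
      exact Ideal.mem_map_of_mem _ hy
    rw [hker, ← Ideal.map_pow, Ideal.map_eq_bot_iff_le_ker, Ideal.mk_ker]
    exact le_sup_left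
  have hI : RingHom.ker q ^ 2 = ⊥ := hq2
  choose b hb using fun x : A => hq (α x)
  let ψ₀ : MvPolynomial A R →ₐ[R] B := MvPolynomial.aeval b
  have hψ₀ : q.comp ψ₀ = α.comp π₀ := MvPolynomial.algHom_ext fun x => by
    simp [ψ₀, π₀, hb]
  have hK : ∀ k ∈ K, ψ₀ k ∈ RingHom.ker q := fun k hk => by
    show q (ψ₀ k) = 0
    rw [← AlgHom.comp_apply, hψ₀, AlgHom.comp_apply, show π₀ k = 0 from hk, map_zero]
  let ψ₁ : MvPolynomial A R →ₐ[R] B := MvPolynomial.aeval fun x => b x - ψ₀ (f x)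
  have hψ₁ : q.comp ψ₁ = α.comp π₀ := MvPolynomial.algHom_ext fun x => by
    simp [ψ₁, π₀, hb, show q (ψ₀ (f x)) = 0 from hK _ (hfK x)]
  have hd : ∀ {ψ : MvPolynomial A R →ₐ[R] B}, q.comp ψ = α.comp π₀ → ∀ p, ψ p - ψ₀ p ∈ RingHom.ker q :=
    fun {ψ} h p => by
      show q (ψ p - ψ₀ p) = 0
      rw [map_sub, ← AlgHom.comp_apply, h, ← AlgHom.comp_apply, hψ₀, sub_self]
  have hval : ∀ {ψ : MvPolynomial A R →ₐ[R] B}, q.comp ψ = α.comp π₀ → ∀ x,
      ψ (f x) - ψ₀ (f x) = ψ (MvPolynomial.X x) - b x := fun {ψ} h x => by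
    rw [sub_eq_sub_of_D_sub_mem hI ψ₀ ψ (hd h) hK (hf x)]
    simp [ψ₀]
  have hzero : ∀ a ∈ N, ψ₁ a = 0 := fun a ha => by
    suffices N ≤ RingHom.ker ψ₁ from this ha
    refine sup_le ?_ (Ideal.span_le.2 ?_)
    · rw [pow_two]
      refine Ideal.mul_le.2 fun k hk l hl => ?_
      have hm : ∀ k ∈ K, ψ₁ k ∈ RingHom.ker q := fun k hk => by
        show q (ψ₁ k) = 0
        rw [← AlgHom.comp_apply, hψ₁, AlgHom.comp_apply, show π₀ k = 0 from hk, map_zero]
      have := Ideal.mul_mem_mul (hm k hk) (hm l hl)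
      rw [← pow_two, hI, Ideal.mem_bot] at this
      show ψ₁ (k * l) = 0
      rw [map_mul, this]
    · rintro _ ⟨x, rfl⟩
      have := hval hψ₁ x
      simp only [ψ₁, MvPolynomial.aeval_X] at this
      show ψ₁ (f x) = 0
      simpa [ψ₁] using this
  refine ⟨Ideal.Quotient.liftₐ N ψ₁ hzero, Ideal.Quotient.algHom_ext _ ?_, fun ψ hψ => ?_⟩
  · exact AlgHom.ext fun p => congr($hψ₁ p)
  · refine Ideal.Quotient.algHom_ext _ (MvPolynomial.algHom_ext fun x => ?_)
    have h' : q.comp (ψ.comp (Ideal.Quotient.mkₐ R N)) = α.comp π₀ :=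
      AlgHom.ext fun p => congr($hψ (Ideal.Quotient.mk N p))
    have h0 : ψ (Ideal.Quotient.mk N (f x)) = 0 := by
      rw [Ideal.Quotient.eq_zero_iff_mem.2 (show f x ∈ N from Ideal.mem_sup_right (Ideal.subset_span ⟨x, rfl⟩)),
        map_zero]
    have := hval h' x
    simp only [AlgHom.comp_apply, Ideal.Quotient.mkₐ_eq_mk, h0, zero_sub] at this ⊢
    show ψ (Ideal.Quotient.mk N (MvPolynomial.X x)) = ψ₁ (MvPolynomial.X x)
    simp only [ψ₁, MvPolynomial.aeval_X]
    linear_combination -this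

end Groth.L09.UnivThick
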