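import Groth.Agent.L09.UnivThick.Basic
import Groth.Agent.L09.UnivThick.Ring

/-!
# Universal first order thickenings on affine charts
-/

universe u

open CategoryTheory CategoryTheory.Limits AlgebraicGeometry AlgSp Opposite

set_option backward.isDefEq.respectTransparency.types false

namespace Groth.L09.UnivThick

open Groth.L23

variable {S : Scheme.{u}}

theorem exists_eq_isoSpec_comp {T : Scheme.{u}} [IsAffine T] {A : CommRingCat.{u}} (l : T ⟶ Spec A) :
    ∃ ψ : A ⟶ Γ(T, ⊤), l = T.isoSpec.hom ≫ Spec.map ψ :=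
  ⟨Spec.preimage (T.isoSpec.inv ≫ l), by rw [Spec.map_preimage, Iso.hom_inv_id_assoc]⟩

theorem exists_univThick_affine {U V : Over S} [IsAffine U.left] [IsAffine V.left] (k : U ⟶ V)
    (hk : FormallyUnramified k.left) :
    ∃ (U' : Over S) (i : U ⟶ U') (k' : U' ⟶ V), MoreMor.IsFirstOrderThickening i.left ∧ i ≫ k' = k ∧
      UnivAff ((yon S).map k) ((yon S).map i) ((yon S).map k') := by
  let φ := k.left.appTop
  let algA : Algebra Γ(V.left, ⊤) Γ(U.left, ⊤) := φ.hom.toAlgebra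
  have : Algebra.FormallyUnramified Γ(V.left, ⊤) Γ(U.left, ⊤) :=
    (HasRingHomProperty.iff_of_isAffine (P := @FormallyUnramified) (f := k.left)).1 hk
  obtain ⟨A', _, _, π, hπ, hπ2, huniv⟩ := exists_univ_thickening_algebra Γ(V.left, ⊤) Γ(U.left, ⊤)
  let πc : CommRingCat.of A' ⟶ Γ(U.left, ⊤) := CommRingCat.ofHom π.toRingHom
  let φ' : Γ(V.left, ⊤) ⟶ CommRingCat.of A' := CommRingCat.ofHom (algebraMap Γ(V.left, ⊤) A')
  let i₀ : U.left ⟶ Spec (CommRingCat.of A') := U.left.isoSpec.hom ≫ Spec.map πc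
  let k₀ : Spec (CommRingCat.of A') ⟶ V.left := Spec.map φ' ≫ V.left.isoSpec.inv
  have hik : i₀ ≫ k₀ = k.left := by
    have : φ' ≫ πc = φ := CommRingCat.hom_ext (RingHom.ext fun r => π.commutes r)
    rw [Category.assoc, ← Spec.map_comp_assoc, this, ← Category.assoc, Iso.comp_inv_eq,
      Scheme.isoSpec_hom_naturality]
  let U' : Over S := Over.mk (k₀ ≫ V.hom)
  let i : U ⟶ U' := Over.homMk i₀ (by
    show i₀ ≫ k₀ ≫ V.hom = U.hom
    rw [reassoc_of% hik, Over.w k])
  let k' : U' ⟶ V := Over.homMk k₀ rfl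
  have hik' : i ≫ k' = k := Over.OverMorphism.ext hik
  have hFO : MoreMor.IsFirstOrderThickening i.left := by
    let e := RingHom.quotientKerEquivOfSurjective (f := π.toRingHom) hπ
    let δ : U.left ≅ Spec (CommRingCat.of (A' ⧸ RingHom.ker π.toRingHom)) :=
      U.left.isoSpec ≪≫ Scheme.Spec.mapIso e.toCommRingCatIso.op
    have he : δ.hom ≫ Spec.map (CommRingCat.ofHom (Ideal.Quotient.mk (RingHom.ker π.toRingHom))) = i₀ := by
      show (U.left.isoSpec.hom ≫ Spec.map _) ≫ _ = _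
      rw [Category.assoc, ← Spec.map_comp]
      rfl
    exact isFirstOrder_of_isPullback (isFirstOrder_specMap_quotient _ hπ2)
      (IsPullback.of_horiz_isIso (fst := δ.hom) (snd := i₀) (g := 𝟙 _)
        ⟨by rw [Category.comp_id]; exact he⟩).flip
  refine ⟨U', i, k', hFO, hik', fun T T' j hT' hj a b w => ?_⟩
  obtain ⟨a, rfl⟩ := (yon S).map_surjective a
  obtain ⟨b, rfl⟩ := (yon S).map_surjective b
  rw [← Functor.map_comp, ← Functor.map_comp] at w
  have wl : j.left ≫ b.left = a.left ≫ k.left := congr($((yon S).map_injective w).left)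
  have hjF := isFirstOrderThickening_of_isFOThickMor_yon_map hT' hj
  have := hjF.1.1
  have : IsAffine T.left := isAffine_of_isAffineHom j.left
  let qc := j.left.appTop
  have hq : Function.Surjective qc := (IsClosedImmersion.isAffine_surjective_of_isAffine j.left).2
  have hq2 : RingHom.ker qc.hom ^ 2 = ⊥ := by
    have h0 := congr(($(show j.left.ker * j.left.ker = ⊥ from hjF.2)).ideal ⟨⊤, isAffineOpen_top T'.left⟩)
    rw [Scheme.IdealSheafData.ideal_mul, Pi.mul_apply, Scheme.Hom.ker_apply,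
      Scheme.IdealSheafData.ideal_bot, Pi.bot_apply] at h0
    rw [pow_two]
    exact h0
  let algB : Algebra Γ(V.left, ⊤) Γ(T'.left, ⊤) := b.left.appTop.hom.toAlgebra
  let algB₀ : Algebra Γ(V.left, ⊤) Γ(T.left, ⊤) := (b.left.appTop ≫ qc).hom.toAlgebra
  have e₀ : φ ≫ a.left.appTop = b.left.appTop ≫ qc := by
    show k.left.appTop ≫ a.left.appTop = b.left.appTop ≫ j.left.appTop
    rw [← Scheme.Hom.comp_appTop, ← Scheme.Hom.comp_appTop, wl]
  let q : Γ(T'.left, ⊤) →ₐ[Γ(V.left, ⊤)] Γ(T.left, ⊤) := ⟨qc.hom, fun r => rfl⟩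
  let α : Γ(U.left, ⊤) →ₐ[Γ(V.left, ⊤)] Γ(T.left, ⊤) := ⟨a.left.appTop.hom, fun r => congr(($e₀).hom r)⟩
  obtain ⟨ψ, hψ, hψu⟩ := huniv _ _ q hq hq2 α
  let ψc : CommRingCat.of A' ⟶ Γ(T'.left, ⊤) := CommRingCat.ofHom ψ.toRingHom
  have hψ₁ : ψc ≫ qc = πc ≫ a.left.appTop := CommRingCat.hom_ext (RingHom.ext fun x => congr($hψ x))
  let l₀ : T'.left ⟶ Spec (CommRingCat.of A') := T'.left.isoSpec.hom ≫ Spec.map ψc
  have hbeta : b.left = T'.left.isoSpec.hom ≫ Spec.map b.left.appTop ≫ V.left.isoSpec.inv := by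
    rw [← Category.assoc, Scheme.isoSpec_hom_naturality, Category.assoc, Iso.hom_inv_id, Category.comp_id]
  have hl₂ : l₀ ≫ k₀ = b.left := by
    have : φ' ≫ ψc = b.left.appTop := CommRingCat.hom_ext (RingHom.ext fun r => ψ.commutes r)
    rw [hbeta, Category.assoc, ← Spec.map_comp_assoc, this]
  have hl₁ : j.left ≫ l₀ = a.left ≫ i₀ := by
    rw [← Category.assoc, ← Scheme.isoSpec_hom_naturality j.left, Category.assoc, ← Spec.map_comp]
    show T.left.isoSpec.hom ≫ Spec.map (ψc ≫ qc) = _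
    rw [hψ₁, Spec.map_comp, ← Category.assoc, Scheme.isoSpec_hom_naturality, Category.assoc]
  let l : T' ⟶ U' := Over.homMk l₀ (by
    show l₀ ≫ k₀ ≫ V.hom = T'.hom
    rw [reassoc_of% hl₂, Over.w b])
  refine ⟨(yon S).map l, ⟨?_, ?_⟩, fun m hm => ?_⟩
  · rw [← Functor.map_comp, ← Functor.map_comp]
    exact congrArg _ (Over.OverMorphism.ext hl₁)
  · rw [← Functor.map_comp]
    exact congrArg _ (Over.OverMorphism.ext hl₂)
  obtain ⟨m, rfl⟩ := (yon S).map_surjective m
  simp only [← Functor.map_comp] at hm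
  refine congrArg _ (Over.OverMorphism.ext ?_)
  obtain ⟨χ, hχ⟩ := exists_eq_isoSpec_comp m.left
  have hm₂ : φ' ≫ χ = b.left.appTop := by
    have := congr($((yon S).map_injective hm.2).left)
    change m.left ≫ Spec.map φ' ≫ V.left.isoSpec.inv = b.left at this
    rw [hχ, hbeta, Category.assoc, cancel_epi, ← Category.assoc, cancel_mono, ← Spec.map_comp] at this
    exact Spec.map_injective this
  have hm₁ : χ ≫ qc = πc ≫ a.left.appTop := by
    have := congr($((yon S).map_injective hm.1).left)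
    change j.left ≫ m.left = a.left ≫ i₀ at this
    rw [hχ, ← Category.assoc, ← Scheme.isoSpec_hom_naturality j.left, Category.assoc, ← Category.assoc a.left,
      ← Scheme.isoSpec_hom_naturality a.left, Category.assoc, cancel_epi, ← Spec.map_comp, ← Spec.map_comp] at this
    exact Spec.map_injective this
  let χ' : A' →ₐ[Γ(V.left, ⊤)] Γ(T'.left, ⊤) := ⟨χ.hom, fun r => congr(($hm₂).hom r)⟩
  have : χ' = ψ := hψu χ' (AlgHom.ext fun x => congr(($hm₁).hom x))
  show m.left = l₀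
  rw [hχ]
  congr 2
  exact CommRingCat.hom_ext (RingHom.ext fun x => congr($this x))

/-- Universality over an etale chart of the base is universality over the base. -/
theorem univAff_comp_etale {Z Z' V X : Sp S} {h : Z ⟶ V} {i : Z ⟶ Z'} {h' : Z' ⟶ V}
    (H : UnivAff h i h') (hi : i ≫ h' = h) {b : V ⟶ X} (hb : RepWith @Etale b) :
    UnivAff (h ≫ b) i (h' ≫ b) := by
  intro T T' j hT' hj a c w
  have hjF := isFirstOrderThickening_of_isFOThickMor_yon_map hT' hj
  obtain ⟨β, ⟨hβ₁, hβ₂⟩, hβu⟩ := etale_thick_lift hb j hjF.1 (a ≫ h) c (by rw [Category.assoc]; exact w.symm)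
  obtain ⟨l, ⟨hl₁, hl₂⟩, hu⟩ := H T T' j hT' hj a β hβ₁
  refine ⟨l, ⟨hl₁, by rw [← Category.assoc, hl₂, hβ₂]⟩, fun m hm => hu m ⟨hm.1, hβu _ ⟨?_, ?_⟩⟩⟩
  · rw [← Category.assoc, hm.1, Category.assoc, hi]
  · rw [Category.assoc]; exact hm.2

end Groth.L09.UnivThick
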