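import Groth.Agent.L09.UnivThick.Basic

/-!
# The map out of a universal first order thickening is formally unramified
-/

universe u

open CategoryTheory CategoryTheory.Limits AlgebraicGeometry AlgSp Opposite

set_option backward.isDefEq.respectTransparency.types false

namespace Groth.L09.UnivThick

open Groth.L23

variable {S : Scheme.{u}} {Z Z' X : Sp S} {h : Z ⟶ X} {i : Z ⟶ Z'} {h' : Z' ⟶ X}

/-- On affine charts, the map out of a universal thickening is formally unramified. -/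
theorem formallyUnramified_affine_chart (HU : IsUnivFOThick h i h') {U V : Over S}
    [IsAffine U.left] [IsAffine V.left] {p : (yon S).obj U ⟶ Z'} (hp : RepWith @Etale p)
    {b : (yon S).obj V ⟶ X} {k : U ⟶ V} (w : p ≫ h' = (yon S).map k ≫ b) :
    FormallyUnramified k.left := by
  obtain ⟨W, wU, cW, sW⟩ : ∃ (W : Over S) (wU : W ⟶ U) (cW : (yon S).obj W ⟶ Z),
      IsPullback ((yon S).map wU) cW p i := ⟨_, _, _, (HU.1.1.1.isPullback p).flip⟩
  have hwU := isFirstOrder_of_isFOThickMor HU.1 hp sW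
  obtain ⟨A, _, C, hC, str, ε₀, ε, hε⟩ := exists_std_thickening wU hwU
  let φ : Γ(V.left, ⊤) ⟶ CommRingCat.of A := Spec.preimage (ε.hom.left ≫ k.left ≫ V.left.isoSpec.hom)
  have hφ : Spec.map φ = ε.hom.left ≫ k.left ≫ V.left.isoSpec.hom := Spec.map_preimage _
  have : IsIso ε.hom.left := inferInstanceAs (IsIso ((Over.forget S).map ε.hom))
  rw [← MorphismProperty.cancel_right_of_respectsIso @FormallyUnramified k.left V.left.isoSpec.hom,
    ← MorphismProperty.cancel_left_of_respectsIso @FormallyUnramified ε.hom.left, ← hφ,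
    HasRingHomProperty.Spec_iff (P := @FormallyUnramified)]
  letI := φ.hom.toAlgebra
  suffices Algebra.FormallyUnramified Γ(V.left, ⊤) A from this
  refine formallyUnramified_of_unique C hC fun B _ _ ψ₀ ψ₁ π hπ hπ2 e₀ e₁ => ?_
  have key : ∀ ψ : A →ₐ[Γ(V.left, ⊤)] B,
      Spec.map (CommRingCat.ofHom ψ.toRingHom) ≫ ε.hom.left ≫ k.left =
        Spec.map (CommRingCat.ofHom (algebraMap Γ(V.left, ⊤) B)) ≫ V.left.isoSpec.inv := by
    intro ψ
    rw [← cancel_mono V.left.isoSpec.hom, Category.assoc, Category.assoc, Category.assoc,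
      Iso.inv_hom_id, Category.comp_id, ← hφ, ← Spec.map_comp]
    exact congrArg Spec.map (CommRingCat.hom_ext (RingHom.ext fun r => ψ.commutes r))
  have hs : str = ε.hom.left ≫ k.left ≫ V.hom := by rw [Over.w k]; exact (Over.w ε.hom).symm
  let T' : Over S := Over.mk (Spec.map (CommRingCat.ofHom ψ₀.toRingHom) ≫ str)
  let m₀ : T' ⟶ Over.mk str := Over.homMk (Spec.map (CommRingCat.ofHom ψ₀.toRingHom)) rfl
  let m₁ : T' ⟶ Over.mk str := Over.homMk (Spec.map (CommRingCat.ofHom ψ₁.toRingHom)) (by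
    show Spec.map (CommRingCat.ofHom ψ₁.toRingHom) ≫ str = Spec.map (CommRingCat.ofHom ψ₀.toRingHom) ≫ str
    rw [hs, reassoc_of% (key ψ₀), reassoc_of% (key ψ₁)])
  let q : Over.mk (Spec.map (CommRingCat.ofHom (Ideal.Quotient.mk C)) ≫ str) ⟶ Over.mk str :=
    Over.homMk (Spec.map (CommRingCat.ofHom (Ideal.Quotient.mk C))) rfl
  let jT : Over.mk (Spec.map (CommRingCat.ofHom (Ideal.Quotient.mk C)) ≫ str) ⟶ T' :=
    Over.homMk (Spec.map (CommRingCat.ofHom π)) (by
      show Spec.map (CommRingCat.ofHom π) ≫ Spec.map (CommRingCat.ofHom ψ₀.toRingHom) ≫ str = Spec.map _ ≫ str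
      rw [← Spec.map_comp_assoc, ← CommRingCat.ofHom_comp, e₀])
  have hq₀ : jT ≫ m₀ = q := Over.OverMorphism.ext (by
    show Spec.map _ ≫ Spec.map _ = Spec.map _
    rw [← Spec.map_comp, ← CommRingCat.ofHom_comp, e₀])
  have hq₁ : jT ≫ m₁ = q := Over.OverMorphism.ext (by
    show Spec.map _ ≫ Spec.map _ = Spec.map _
    rw [← Spec.map_comp, ← CommRingCat.ofHom_comp, e₁])
  have hj : MoreMor.IsFirstOrderThickening jT.left := by
    let e := RingHom.quotientKerEquivOfSurjective (f := π) hπ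
    let δ : Spec (CommRingCat.of (A ⧸ C)) ≅ Spec (CommRingCat.of (B ⧸ RingHom.ker π)) :=
      Scheme.Spec.mapIso e.toCommRingCatIso.op
    have he : δ.hom ≫ Spec.map (CommRingCat.ofHom (Ideal.Quotient.mk (RingHom.ker π))) =
        Spec.map (CommRingCat.ofHom π) := by
      show Spec.map _ ≫ _ = _
      rw [← Spec.map_comp]
      rfl
    exact isFirstOrder_of_isPullback (isFirstOrder_specMap_quotient _ hπ2)
      (IsPullback.of_horiz_isIso (fst := δ.hom) (snd := jT.left) (g := 𝟙 _)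
        ⟨by rw [Category.comp_id]; exact he⟩).flip
  have hm : ∀ m : T' ⟶ Over.mk str, m.left ≫ ε.hom.left ≫ k.left =
      Spec.map (CommRingCat.ofHom (algebraMap Γ(V.left, ⊤) B)) ≫ V.left.isoSpec.inv →
      (yon S).map m ≫ (yon S).map ε.hom ≫ p ≫ h' =
        (yon S).map m₀ ≫ (yon S).map ε.hom ≫ p ≫ h' := by
    intro m hm
    have : m ≫ ε.hom ≫ k = m₀ ≫ ε.hom ≫ k := Over.OverMorphism.ext (hm.trans (key ψ₀).symm)
    simp only [w, ← Functor.map_comp_assoc, this]
  have hsq : ∀ m, jT ≫ m = q → (yon S).map jT ≫ (yon S).map m ≫ (yon S).map ε.hom ≫ p =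
      ((yon S).map ε₀.hom ≫ cW) ≫ i := by
    intro m hm
    rw [← Functor.map_comp_assoc, hm, Category.assoc, ← sW.w, ← Functor.map_comp_assoc,
      ← Functor.map_comp_assoc, hε]
  have hu := (univAff_of_isUnivFOThick HU _ _ jT (inferInstanceAs (IsAffine (Spec (CommRingCat.of B))))
    (isFOThickMor_yon_map hj) ((yon S).map ε₀.hom ≫ cW)
    ((yon S).map m₀ ≫ (yon S).map ε.hom ≫ p ≫ h') (by
      rw [← HU.2.1, ← Category.assoc _ i h', ← hsq m₀ hq₀]
      simp only [Category.assoc])).unique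
    (y₁ := (yon S).map m₀ ≫ (yon S).map ε.hom ≫ p) (y₂ := (yon S).map m₁ ≫ (yon S).map ε.hom ≫ p)
    ⟨hsq m₀ hq₀, by simp only [Category.assoc]⟩
    ⟨hsq m₁ hq₁, by rw [← hm m₁ (key ψ₁)]; simp only [Category.assoc]⟩
  have hpq : RepWith @Etale ((yon S).map ε.hom ≫ p) :=
    repWith_comp (repWith_map (inferInstanceAs (Etale ε.hom.left))) hp
  have : IsAffine T'.left := inferInstanceAs (IsAffine (Spec (CommRingCat.of B)))
  have hmm := (yon S).map_injective (uniq_lift_affine
    ((formallyEtale_iff _).1 (formallyEtale_of_repWith hpq)).2 jT hj ((yon S).map m₀) ((yon S).map m₁)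
    (by rw [← Functor.map_comp, ← Functor.map_comp, hq₀, hq₁]) hu)
  have := Spec.map_injective (congr($(hmm).left) :
    Spec.map (CommRingCat.ofHom ψ₀.toRingHom) = Spec.map (CommRingCat.ofHom ψ₁.toRingHom))
  exact AlgHom.ext fun a => congr(($this).hom a)

theorem isFormallyUnramifiedMor (hZ' : IsAlgSpace Z') (hX : IsAlgSpace X) (HU : IsUnivFOThick h i h') :
    IsFormallyUnramifiedMor h' := by
  obtain ⟨U, V, a, b, k, ha, has, hb, -, w⟩ := exists_chart hZ' hX h'
  refine formallyUnramified_of_chart ha has hb w ?_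
  have hloc : ∀ x : U.left, ∃ O : U.left.Opens, x ∈ O ∧ FormallyUnramified (O.ι ≫ k.left) := fun x => by
    obtain ⟨_, ⟨V₁', hV₁, rfl⟩, hxV, -⟩ :=
      V.left.isBasis_affineOpens.exists_subset_of_mem_open (Set.mem_univ (k.left x)) isOpen_univ
    let V₁ : V.left.Opens := V₁'
    obtain ⟨_, ⟨U₁', hU₁, rfl⟩, hxU, hle⟩ :=
      U.left.isBasis_affineOpens.exists_subset_of_mem_open (show x ∈ (k.left ⁻¹ᵁ V₁ : U.left.Opens) from hxV)
        (k.left ⁻¹ᵁ V₁).isOpen
    let U₁ : U.left.Opens := U₁'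
    let U₀ : Over S := Over.mk (U₁.ι ≫ U.hom)
    let V₀ : Over S := Over.mk (V₁.ι ≫ V.hom)
    let oU : U₀ ⟶ U := Over.homMk U₁.ι rfl
    let oV : V₀ ⟶ V := Over.homMk V₁.ι rfl
    let r : U₀ ⟶ V₀ := Over.homMk (k.left.resLE V₁ U₁ hle) (by
      show _ ≫ _ ≫ V.hom = _ ≫ U.hom
      rw [Scheme.Hom.resLE_comp_ι_assoc, Over.w k])
    have hr : r ≫ oV = oU ≫ k := Over.OverMorphism.ext (Scheme.Hom.resLE_comp_ι _ _)
    have : IsAffine U₀.left := hU₁
    have : IsAffine V₀.left := hV₁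
    have hF := formallyUnramified_affine_chart HU (k := r) (b := (yon S).map oV ≫ b)
      (repWith_comp (repWith_map (show Etale oU.left from inferInstanceAs (Etale U₁.ι))) ha)
      (by rw [Category.assoc, w, ← Functor.map_comp_assoc, ← Functor.map_comp_assoc, hr])
    refine ⟨U₁, hxU, ?_⟩
    rw [← Scheme.Hom.resLE_comp_ι k.left (V := U₁) (U := V₁) hle]
    exact MorphismProperty.comp_mem _ _ _ hF inferInstance
  choose O hO hF using hloc
  exact (IsZariskiLocalAtSource.iff_of_iSup_eq_top O (TopologicalSpace.Opens.coe_eq_univ.1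
    (Set.eq_univ_of_forall fun x => TopologicalSpace.Opens.mem_iSup.2 ⟨x, hO x⟩))).2 hF

end Groth.L09.UnivThick
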